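/-
Elements of order three of an orthogonal group over GF(3): write g = 1 + N; then N³ = 0 and N is
a sum of at most two "Siegel" pieces `sg u y`.
-/
import Cfsg.Agent.Lib.Orthogonal.Witt
import Mathlib.Algebra.Field.ZMod

set_option autoImplicit false

namespace Cfsg.Agent.Omega7

open QuadraticMap Module Cfsg.Agent.Orth

/-- the field with three elements -/
abbrev K := ZMod 3

variable {V : Type*} [AddCommGroup V] [Module K V] (Q : QuadraticForm K V)

/-- the nilpotent part of a Siegel transformation -/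
def sg (u y : V) (x : V) : V := polar Q x u • y - (polar Q x y + Q y * polar Q x u) • u

/-- `1 + N` is an isometry and `N³ = 0`. -/
structure Good (N : V →ₗ[K] V) : Prop where
  cube : ∀ x, N (N (N x)) = 0
  star : ∀ x y, polar Q (N x) y + polar Q x (N y) + polar Q (N x) (N y) = 0
  starQ : ∀ x, Q (N x) + polar Q x (N x) = 0

/-- four vectors with the Gram matrix of two orthogonal Siegel pieces -/
structure Gram (u y v w : V) (qy qw : K) : Prop where
  qu : Q u = 0
  qv : Q v = 0
  hy : Q y = qy
  hw : Q w = qw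
  uy : polar Q u y = 0
  uv : polar Q u v = 0
  uw : polar Q u w = 0
  yv : polar Q y v = 0
  yw : polar Q y w = 0
  vw : polar Q v w = 0

variable {Q}

theorem three_smul_zero (x : V) : x + x + x = 0 := by
  have h : ((1 : K) + 1 + 1) • x = 0 := by
    rw [show ((1 : K) + 1 + 1) = 0 by decide, zero_smul]
  rw [add_smul, add_smul, one_smul] at h
  exact h

theorem q_eq (x : V) : Q x = - polar Q x x := by
  rw [b_self]
  have : ∀ c : K, c = -(2 * c) := by decide
  exact this _

theorem b_neg_left (x y : V) : polar Q (-x) y = - polar Q x y := by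
  rw [← neg_one_smul K x, b_smul_left]; ring

theorem b_neg_right (x y : V) : polar Q x (-y) = - polar Q x y := by
  rw [← neg_one_smul K y, b_smul_right]; ring

/-- `g - 1` -/
def nl (g : V ≃ₗ[K] V) : V →ₗ[K] V := g.toLinearMap - LinearMap.id

theorem nl_apply (g : V ≃ₗ[K] V) (x : V) : nl g x = g x - x := rfl

theorem good_of (g : V ≃ₗ[K] V) (hg : g ∈ oGroup Q) (h3 : ∀ x, g (g (g x)) = x) : Good Q (nl g) := by
  refine ⟨fun x => ?_, fun x y => ?_, fun x => ?_⟩
  · simp only [nl_apply, map_sub, h3]
    calc x - g (g x) - (g (g x) - g x) - (g (g x) - g x - (g x - x))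
        = -(g (g x) + g (g x) + g (g x)) + (g x + g x + g x) := by abel
      _ = 0 := by rw [three_smul_zero, three_smul_zero, neg_zero, add_zero]
  · simp only [nl_apply, b_sub_left, b_sub_right, b_map hg]
    ring
  · have h : Q (g x) = Q x := hg x
    simp only [nl_apply, b_sub_right, q_sub, b_self, h, b_comm (g x) x]
    ring

variable {N : V →ₗ[K] V}

theorem Good.n2n2 (hN : Good Q N) (x y : V) : polar Q (N (N x)) (N (N y)) = 0 := by
  have h := hN.star (N (N x)) (N y)
  rw [hN.cube, b_zero_left, b_zero_left] at h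
  simpa using h

theorem Good.n2n1 (hN : Good Q N) (x y : V) : polar Q (N (N x)) (N y) = 0 := by
  have h := hN.star (N (N x)) y
  rw [hN.cube, b_zero_left, b_zero_left] at h
  simpa using h

theorem Good.psi (hN : Good Q N) (x y : V) : polar Q (N (N x)) y = - polar Q (N x) (N y) := by
  have h := hN.star (N x) y
  rw [hN.n2n1 x y] at h
  linear_combination h

theorem Good.psi_symm (hN : Good Q N) (x y : V) : polar Q (N (N x)) y = polar Q x (N (N y)) := by
  rw [b_comm x, hN.psi, hN.psi, b_comm (N x)]

theorem Good.exists_psi (hQ : (polarBilin Q).Nondegenerate) (hN : Good Q N)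
    (h : ∃ x, N (N x) ≠ 0) : ∃ x, polar Q (N (N x)) x ≠ 0 := by
  by_contra hne
  simp only [not_exists, not_not] at hne
  obtain ⟨x, hx⟩ := h
  refine hx (eq_zero_of_b hQ fun y => ?_)
  have h1 := hne (x + y)
  simp only [map_add, b_add_left, b_add_right, hne x, hne y] at h1
  rw [hN.psi_symm y x, b_comm y] at h1
  have : ∀ c : K, 0 + c + (c + 0) = 0 → c = 0 := by decide
  exact this _ h1

/-- Facts about a normalised generator of a block. -/
theorem Good.block (hN : Good Q N) {x : V} {d : K} (hq : Q x = 0) (hd : polar Q (N (N x)) x = d) :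
    polar Q x x = 0 ∧ polar Q x (N (N x)) = d ∧ polar Q (N x) (N x) = -d ∧ Q (N x) = d ∧
      polar Q x (N x) = -d ∧ polar Q (N x) x = -d ∧ polar Q (N x) (N (N x)) = 0 ∧ Q (N (N x)) = 0 := by
  have e1 : polar Q (N x) (N x) = -d := by linear_combination hN.psi x x - hd
  have e2 : Q (N x) = d := by rw [q_eq, e1, neg_neg]
  have e3 : polar Q x (N x) = -d := by linear_combination hN.starQ x - e2
  refine ⟨by rw [b_self, hq, mul_zero], by rw [b_comm]; exact hd, e1, e2, e3, by rw [b_comm]; exact e3,
    by rw [b_comm]; exact hN.n2n1 x x, by rw [q_eq, hN.n2n2, neg_zero]⟩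

/-- A normalised generator of a block. -/
theorem Good.exists_block (hQ : (polarBilin Q).Nondegenerate) (hN : Good Q N)
    (h : ∃ x, N (N x) ≠ 0) :
    ∃ x d, Q x = 0 ∧ polar Q (N (N x)) x = d ∧ d ≠ 0 := by
  obtain ⟨x, hx⟩ := hN.exists_psi hQ h
  set d := polar Q (N (N x)) x
  refine ⟨x + (-Q x * d) • N (N x), d, ?_, ?_, hx⟩
  · rw [q_add, q_smul, q_eq (N (N x)), hN.n2n2, b_smul_right, b_comm x]
    have : ∀ a c : K, c ≠ 0 → a + -a * c * (-a * c) * -0 + -a * c * c = 0 := by decide
    exact this _ _ hx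
  · simp only [map_add, map_smul, hN.cube, map_zero, smul_zero, add_zero, b_add_right, b_smul_right]
    rw [hN.n2n2, mul_zero, add_zero]

/-- Splitting off a block. -/
theorem Good.peel (hN : Good Q N) {x : V} {d : K} (hq : Q x = 0) (hd : polar Q (N (N x)) x = d)
    (hd0 : d ≠ 0) :
    ∃ N' : V →ₗ[K] V, Good Q N' ∧ (∀ z, N z = sg Q (d • N (N x)) (N x) z + N' z) ∧
      N' x = 0 ∧ N' (N x) = 0 ∧ N' (N (N x)) = 0 ∧
      ∀ z, polar Q (N' z) x = 0 ∧ polar Q (N' z) (N x) = 0 ∧ polar Q (N' z) (N (N x)) = 0 := by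
  obtain ⟨xx, xn, nn, qn, xn1, nx, n12, q2⟩ := hN.block hq hd
  have dd : d * d = 1 := by
    have : ∀ c : K, c ≠ 0 → c * c = 1 := by decide
    exact this _ hd0
  let b0 : V → K := fun z => polar Q z x
  let b1 : V → K := fun z => polar Q z (N x)
  let b2 : V → K := fun z => polar Q z (N (N x))
  let R : V →ₗ[K] V :=
    { toFun := fun z => z - ((d * b2 z) • x + (-d * (b1 z + b2 z)) • N x
        + (d * (b0 z - b1 z - b2 z)) • N (N x))
      map_add' := fun a c => by simp only [b0, b1, b2, b_add_left]; module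
      map_smul' := fun c a => by
        simp only [b0, b1, b2, b_smul_left, RingHom.id_apply]; module }
  have hR : ∀ z, R z = z - ((d * b2 z) • x + (-d * (b1 z + b2 z)) • N x
      + (d * (b0 z - b1 z - b2 z)) • N (N x)) := fun z => rfl
  have hR0 : ∀ z, polar Q (R z) x = 0 := fun z => by
    rw [hR]
    simp only [b_sub_left, b_add_left, b_smul_left, xx, nx, hd, b0, b1, b2]
    linear_combination (-(polar Q z x)) * dd
  have hR1 : ∀ z, polar Q (R z) (N x) = 0 := fun z => by
    rw [hR]
    simp only [b_sub_left, b_add_left, b_smul_left, xn1, nn, hN.n2n1, b0, b1, b2]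
    linear_combination (-(polar Q z (N x))) * dd
  have hR2 : ∀ z, polar Q (R z) (N (N x)) = 0 := fun z => by
    rw [hR]
    simp only [b_sub_left, b_add_left, b_smul_left, xn, n12, hN.n2n2, b0, b1, b2]
    linear_combination (-(polar Q z (N (N x)))) * dd
  -- N preserves the orthogonal complement of the block
  have perp : ∀ z, polar Q z x = 0 → polar Q z (N x) = 0 → polar Q z (N (N x)) = 0 →
      polar Q (N z) x = 0 ∧ polar Q (N z) (N x) = 0 ∧ polar Q (N z) (N (N x)) = 0 := by
    intro z h0 h1 h2
    have a2 : polar Q (N z) (N (N x)) = 0 := by rw [b_comm]; exact hN.n2n1 x z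
    have a1 : polar Q (N z) (N x) = 0 := by
      have h := hN.psi z x
      rw [hN.psi_symm, h2] at h
      linear_combination h
    have h := hN.star z x
    rw [h1, a1] at h
    exact ⟨by linear_combination h, a1, a2⟩
  have hfix : ∀ z, polar Q z x = 0 → polar Q z (N x) = 0 → polar Q z (N (N x)) = 0 → R z = z :=
    fun z h0 h1 h2 => by rw [hR]; simp [b0, b1, b2, h0, h1, h2]
  have hRN : ∀ z, R (N (R z)) = N (R z) := fun z =>
    let ⟨p0, p1, p2⟩ := perp _ (hR0 z) (hR1 z) (hR2 z)
    hfix _ p0 p1 p2
  have hRb : ∀ z w, polar Q (R z) (R w) = polar Q (R z) w := by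
    intro z w
    conv_lhs => rw [hR w]
    simp only [b_sub_right, b_add_right, b_smul_right, hR0, hR1, hR2]
    ring
  have hNb : ∀ z w, polar Q (N (R z)) w = polar Q (N (R z)) (R w) := by
    intro z w
    rw [← hRN z, hRb]
  refine ⟨N.comp R, ⟨fun z => ?_, fun z w => ?_, fun z => ?_⟩, fun z => ?_, ?_, ?_, ?_, fun z => ?_⟩
  · simp only [LinearMap.comp_apply]
    rw [hRN, hRN]
    exact hN.cube _
  · simp only [LinearMap.comp_apply]
    rw [hNb z w, b_comm z, hNb w z, b_comm (N (R w))]
    exact hN.star (R z) (R w)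
  · simp only [LinearMap.comp_apply]
    rw [b_comm z, hNb z z, b_comm (N (R z))]
    exact hN.starQ (R z)
  · simp only [LinearMap.comp_apply, hR, map_sub, map_add, map_smul, hN.cube, smul_zero, add_zero, sg,
      qn, b_smul_right, b0, b1, b2]
    have e : d * (d * polar Q z (N (N x))) = polar Q z (N (N x)) := by
      rw [← mul_assoc, dd, one_mul]
    rw [e]
    module
  · have h0 : R x = 0 := by
      rw [hR]; simp only [b0, b1, b2, xx, xn1, xn]
      rw [dd, show -d * (-d + d) = 0 by ring, show d * (0 - -d - d) = 0 by ring, one_smul, zero_smul,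
        zero_smul, add_zero, add_zero, sub_self]
    rw [LinearMap.comp_apply, h0, map_zero]
  · have h0 : R (N x) = 0 := by
      rw [hR]; simp only [b0, b1, b2, nx, nn, n12]
      rw [mul_zero, zero_smul, zero_add, show -d * (-d + 0) = d * d by ring,
        show d * (-d - -d - 0) = 0 by ring, dd, one_smul, zero_smul, add_zero, sub_self]
    rw [LinearMap.comp_apply, h0, map_zero]
  · have h0 : R (N (N x)) = 0 := by
      rw [hR]; simp only [b0, b1, b2, hd, hN.n2n1, hN.n2n2]
      rw [mul_zero, zero_smul, zero_add, show -d * ((0 : K) + 0) = 0 by ring,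
        show d * (d - 0 - 0) = d * d by ring, dd, one_smul, zero_smul, zero_add, sub_self]
    rw [LinearMap.comp_apply, h0, map_zero]
  · exact perp _ (hR0 z) (hR1 z) (hR2 z)

/-- Four independent mutually orthogonal singular vectors do not fit in dimension 7. -/
theorem no_four [FiniteDimensional K V] (hQ : (polarBilin Q).Nondegenerate) (hdim : finrank K V = 7)
    (f : Fin 4 → V) (hf : LinearIndependent K f) (h : ∀ i j, polar Q (f i) (f j) = 0) : False := by
  have hW : ∀ x ∈ Submodule.span K (Set.range f), Q x = 0 := by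
    have h1 : ∀ x ∈ Submodule.span K (Set.range f), ∀ j, polar Q x (f j) = 0 := by
      intro x hx j
      induction hx using Submodule.span_induction with
      | mem a ha => obtain ⟨i, rfl⟩ := ha; exact h i j
      | zero => exact b_zero_left _
      | add a c _ _ ha hc => rw [b_add_left, ha, hc, add_zero]
      | smul t a _ ha => rw [b_smul_left, ha, mul_zero]
    intro x hx
    rw [q_eq, neg_eq_zero]
    suffices ∀ z ∈ Submodule.span K (Set.range f), polar Q x z = 0 from this x hx
    intro z hz
    induction hz using Submodule.span_induction with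
    | mem a ha => obtain ⟨j, rfl⟩ := ha; exact h1 x hx j
    | zero => exact b_zero_right _
    | add a c _ _ ha hc => rw [b_add_right, ha, hc, add_zero]
    | smul t a _ ha => rw [b_smul_right, ha, mul_zero]
  have h1 := finrank_singular_le hQ hW
  rw [finrank_span_eq_card hf, Fintype.card_fin, hdim] at h1
  omega

/-- The case `N² = 0`. -/
theorem Good.siegel [FiniteDimensional K V] (hQ : (polarBilin Q).Nondegenerate)
    (hdim : finrank K V = 7) (hN : Good Q N) (h2 : ∀ x, N (N x) = 0) (hne : ∃ x, N x ≠ 0) :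
    ∃ a c, Q (N a) = 0 ∧ Q (N c) = 0 ∧ polar Q (N a) (N c) = 0 ∧
      (∀ z, N z = sg Q (N a) (N c) z) ∧ (∀ s t : K, s • N a + t • N c = 0 → s = 0 ∧ t = 0) := by
  have hnn : ∀ x y, polar Q (N x) (N y) = 0 := fun x y => by
    have h := hN.psi x y
    rw [h2, b_zero_left] at h
    linear_combination h
  have hsk : ∀ x y, polar Q (N x) y = - polar Q x (N y) := fun x y => by
    have h := hN.star x y
    rw [hnn] at h
    linear_combination h
  have hqn : ∀ x, Q (N x) = 0 := fun x => by rw [q_eq, hnn, neg_zero]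
  have hself : ∀ x, polar Q (N x) x = 0 := fun x => by
    rw [b_comm]; linear_combination hN.starQ x - hqn x
  obtain ⟨a, ha⟩ := hne
  obtain ⟨c₀, hc₀⟩ : ∃ c, polar Q (N a) c ≠ 0 := by
    by_contra h
    simp only [not_exists, not_not] at h
    exact ha (eq_zero_of_b hQ h)
  set c := polar Q (N a) c₀ • c₀ with hc
  have hac : polar Q (N a) c = 1 := by
    rw [hc, b_smul_right]
    have : ∀ t : K, t ≠ 0 → t * t = 1 := by decide
    exact this _ hc₀
  have hca : polar Q (N c) a = -1 := by rw [hsk, b_comm, hac]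
  refine ⟨a, c, hqn a, hqn c, hnn a c, fun z => ?_, fun s t hst => ?_⟩
  · set M : V → V := fun z => N z - sg Q (N a) (N c) z with hM
    by_contra hz
    have hMz : M z ≠ 0 := fun h => hz (sub_eq_zero.1 h)
    obtain ⟨z', hz'⟩ : ∃ z', polar Q (M z) z' ≠ 0 := by
      by_contra h
      simp only [not_exists, not_not] at h
      exact hMz (eq_zero_of_b hQ h)
    have hMdef : ∀ w, M w = N w - (polar Q w (N a) • N c - (polar Q w (N c)) • N a) := fun w => by
      simp only [hM, sg, hqn, zero_mul, add_zero]
    have skew : ∀ v w, polar Q (M v) w = - polar Q v (M w) := fun v w => by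
      simp only [hMdef, b_sub_left, b_sub_right, b_smul_left, b_smul_right]
      rw [hsk v w, b_comm (N c) w, b_comm (N a) w]
      ring
    have self : ∀ v, polar Q (M v) v = 0 := fun v => by
      simp only [hMdef, b_sub_left, b_smul_left]
      rw [hself, b_comm (N c) v, b_comm (N a) v]
      ring
    have Ma : M a = 0 := by
      rw [hMdef, b_comm a, hself, b_comm a, hca, zero_smul, zero_sub, neg_one_smul, neg_neg, sub_self]
    have Mc : M c = 0 := by
      rw [hMdef, b_comm c, hac, b_comm c, hself, zero_smul, sub_zero, one_smul, sub_self]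
    have hNM : ∀ v w, polar Q (M v) (N w) = 0 := fun v w => by
      simp only [hMdef, b_sub_left, b_smul_left, hnn]; ring
    have hMM : ∀ v w, polar Q (M v) (M w) = 0 := fun v w => by
      rw [hMdef w]
      simp only [b_sub_right, b_smul_right, hNM]; ring
    have li : LinearIndependent K ![N a, N c, M z, M z'] := by
      rw [Fintype.linearIndependent_iff]
      intro g hg
      simp only [Fin.sum_univ_four, Matrix.cons_val] at hg
      have p1 := congrArg (fun v => polar Q v a) hg
      have p2 := congrArg (fun v => polar Q v c) hg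
      have p3 := congrArg (fun v => polar Q v z') hg
      have p4 := congrArg (fun v => polar Q v z) hg
      simp only [b_add_left, b_smul_left, b_zero_left, hself, hca, hac, skew z a, skew z' a, skew z c,
        skew z' c, Ma, Mc, b_zero_right, mul_zero, zero_add, add_zero, neg_zero] at p1 p2
      have g1 : g 1 = 0 := by linear_combination -p1
      have g0 : g 0 = 0 := by linear_combination p2
      simp only [b_add_left, b_smul_left, b_zero_left, g0, g1, zero_mul, zero_add, self, mul_zero,
        add_zero] at p3 p4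
      rw [skew z' z, b_comm z' (M z)] at p4
      have g2 : g 2 = 0 := (mul_eq_zero.1 p3).resolve_right hz'
      have g3 : g 3 = 0 := (mul_eq_zero.1 p4).resolve_right (neg_ne_zero.2 hz')
      intro i
      fin_cases i <;> assumption
    refine no_four hQ hdim _ li ?_
    intro i j
    fin_cases i <;> fin_cases j <;>
      simp only [Fin.isValue, Fin.zero_eta, Fin.mk_one, Fin.reduceFinMk, Matrix.cons_val, hnn, hNM,
        hMM] <;>
      rw [b_comm, hNM]
  · have p1 := congrArg (fun v => polar Q v a) hst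
    have p2 := congrArg (fun v => polar Q v c) hst
    simp only [b_add_left, b_smul_left, b_zero_left, hself, hca, hac, mul_zero, zero_add,
      add_zero] at p1 p2
    exact ⟨by linear_combination p2, by linear_combination -p1⟩

/-- The classification of `N`, given a constraint on the form. -/
theorem Good.classify [FiniteDimensional K V] (hQ : (polarBilin Q).Nondegenerate)
    (hdim : finrank K V = 7)
    (hM : ∀ u v w y y' : V, Q u = 0 → Q v = 0 → Q w = 0 → polar Q u v = 0 → polar Q u w = 0 →
      polar Q v w = 0 → (∀ r s t : K, r • u + s • v + t • w = 0 → r = 0 ∧ s = 0 ∧ t = 0) →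
      polar Q u y = 0 → polar Q v y = 0 → polar Q w y = 0 → Q y ≠ -1 ∧
      (polar Q u y' = 0 → polar Q v y' = 0 → polar Q w y' = 0 → polar Q y y' = 0 → Q y = 0 ∨ Q y' = 0))
    (hN : Good Q N) (hne : ∃ x, N x ≠ 0) :
    (∃ u y, Q u = 0 ∧ polar Q u y = 0 ∧ (∀ s t : K, s • u + t • y = 0 → s = 0 ∧ t = 0) ∧
      ∀ z, N z = sg Q u y z) ∨
    (∃ u y v w qy qw, ((qy = 1 ∧ qw = 0) ∨ (qy = 1 ∧ qw = -1) ∨ (qy = -1 ∧ qw = -1)) ∧
      Gram Q u y v w qy qw ∧
      (∀ r s t p : K, r • u + s • y + t • v + p • w = 0 → r = 0 ∧ s = 0 ∧ t = 0 ∧ p = 0) ∧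
      ∀ z, N z = sg Q u y z + sg Q v w z) := by
  by_cases h2 : ∃ x, N (N x) ≠ 0
  swap
  · simp only [not_exists, not_not] at h2
    obtain ⟨a, c, q1, q2, b12, hf, li⟩ := hN.siegel hQ hdim h2 hne
    exact Or.inl ⟨N a, N c, q1, b12, li, hf⟩
  obtain ⟨x, d, hq, hd, hd0⟩ := hN.exists_block hQ h2
  obtain ⟨xx, xn, nn, qn, xn1, nx, n12, q2⟩ := hN.block hq hd
  obtain ⟨N₁, hN₁, hsplit, k0, k1, k2, hperp⟩ := hN.peel hq hd hd0
  have dd : d * d = 1 := by
    have : ∀ c : K, c ≠ 0 → c * c = 1 := by decide
    exact this _ hd0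
  set u := d • N (N x) with hu
  set y := N x with hy
  have hqu : Q u = 0 := by rw [hu, q_smul, q2, mul_zero]
  have huy : polar Q u y = 0 := by rw [hu, b_smul_left, b_comm, n12, mul_zero]
  have hxu : polar Q x u = 1 := by rw [hu, b_smul_right, xn, dd]
  have hu0 : ∀ v, polar Q v (N (N x)) = 0 → polar Q v u = 0 := fun v h => by
    rw [hu, b_smul_right, h, mul_zero]
  by_cases hne₁ : ∃ z, N₁ z ≠ 0
  swap
  · simp only [not_exists, not_not] at hne₁
    refine Or.inl ⟨u, y, hqu, huy, fun s t hst => ?_, fun z => by rw [hsplit, hne₁, add_zero]⟩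
    have p1 := congrArg (fun v => polar Q v y) hst
    simp only [b_add_left, b_smul_left, b_zero_left, huy, b_self, qn, mul_zero, zero_add] at p1
    have ht : t = 0 := (mul_eq_zero.1 p1).resolve_right
      (mul_ne_zero (by decide) hd0)
    have p2 := congrArg (fun v => polar Q v x) hst
    simp only [b_add_left, b_smul_left, b_zero_left, ht, zero_mul, add_zero, b_comm u x, hxu, mul_one] at p2
    exact ⟨p2, ht⟩
  by_cases h22 : ∃ z, N₁ (N₁ z) ≠ 0
  swap
  · simp only [not_exists, not_not] at h22
    obtain ⟨a, c, q1, q3, bac, hf, li⟩ := hN₁.siegel hQ hdim h22 hne₁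
    obtain ⟨va, vay, vau'⟩ := hperp a
    obtain ⟨wa, way, wau'⟩ := hperp c
    have vau := hu0 _ vau'
    have wau := hu0 _ wau'
    set v := N₁ a
    set w := N₁ c
    have li3 : ∀ r s t : K, r • u + s • v + t • w = 0 → r = 0 ∧ s = 0 ∧ t = 0 := by
      intro r s t h
      have p := congrArg (fun e => polar Q e x) h
      simp only [b_add_left, b_smul_left, b_zero_left, b_comm u x, hxu, va, wa, mul_zero, add_zero,
        mul_one] at p
      rw [p, zero_smul, zero_add] at h
      exact ⟨p, (li s t h).1, (li s t h).2⟩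
    have hd1 : d = 1 := by
      have hne' := (hM u v w y y hqu q1 q3 (by rw [b_comm]; exact vau) (by rw [b_comm]; exact wau) bac
        li3 huy vay way).1
      rw [qn] at hne'
      have : ∀ c : K, c ≠ 0 → c ≠ -1 → c = 1 := by decide
      exact this _ hd0 hne'
    refine Or.inr ⟨u, y, v, w, 1, 0, Or.inl ⟨rfl, rfl⟩, ⟨hqu, q1, by rw [qn, hd1], q3, huy,
      by rw [b_comm]; exact vau, by rw [b_comm]; exact wau, by rw [b_comm]; exact vay,
      by rw [b_comm]; exact way, bac⟩, fun r s t p h => ?_, fun z => by rw [hsplit, hf]⟩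
    have p1 := congrArg (fun e => polar Q e y) h
    simp only [b_add_left, b_smul_left, b_zero_left, huy, b_self, qn, vay, way, mul_zero, zero_add,
      add_zero] at p1
    have hs : s = 0 := (mul_eq_zero.1 p1).resolve_right (mul_ne_zero (by decide) hd0)
    rw [hs, zero_smul, add_zero] at h
    obtain ⟨h1, h2, h3⟩ := li3 _ _ _ h
    exact ⟨h1, hs, h2, h3⟩
  -- a second block
  obtain ⟨x₀, hx₀⟩ := hN₁.exists_psi hQ h22
  obtain ⟨x', d', hq', hd', hd'0⟩ := hN₁.exists_block hQ h22
  obtain ⟨xx', xn', nn', qn', xn1', nx', n12', q2'⟩ := hN₁.block hq' hd'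
  obtain ⟨N₂, hN₂, hsplit', k0', k1', k2', hperp'⟩ := hN₁.peel hq' hd' hd'0
  have dd' : d' * d' = 1 := by
    have : ∀ c : K, c ≠ 0 → c * c = 1 := by decide
    exact this _ hd'0
  set v := d' • N₁ (N₁ x') with hv
  set w := N₁ x' with hw
  have hqv : Q v = 0 := by rw [hv, q_smul, q2', mul_zero]
  have hvw : polar Q v w = 0 := by rw [hv, b_smul_left, b_comm, n12', mul_zero]
  have hx'v : polar Q x' v = 1 := by rw [hv, b_smul_right, xn', dd']
  have wx : polar Q w x = 0 := (hperp x').1
  have wy : polar Q w y = 0 := (hperp x').2.1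
  have wu' : polar Q w (N (N x)) = 0 := (hperp x').2.2
  have wu := hu0 _ wu'
  have vx : polar Q v x = 0 := by rw [hv, b_smul_left, (hperp _).1, mul_zero]
  have vy : polar Q v y = 0 := by rw [hv, b_smul_left, (hperp _).2.1, mul_zero]
  have vu : polar Q v u = 0 := hu0 _ (by rw [hv, b_smul_left, (hperp _).2.2, mul_zero])
  have gram : Gram Q u y v w d d' := ⟨hqu, hqv, qn, qn', huy, by rw [b_comm]; exact vu,
    by rw [b_comm]; exact wu, by rw [b_comm]; exact vy, by rw [b_comm]; exact wy, hvw⟩
  -- there is no third block and no further piece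
  have hN₂0 : ∀ z, N₂ z = 0 := by
    by_contra hne₂
    simp only [not_forall] at hne₂
    have mem : ∀ z, polar Q (N₂ z) x = 0 ∧ polar Q (N₂ z) u = 0 ∧ polar Q (N₂ z) y = 0 ∧
        polar Q (N₂ z) x' = 0 ∧ polar Q (N₂ z) v = 0 ∧ polar Q (N₂ z) w = 0 := by
      intro z
      obtain ⟨a0, a1, a2⟩ := hperp' z
      have e : N₂ z = N₁ z - sg Q v w z := by rw [hsplit']; abel
      refine ⟨?_, ?_, ?_, a0, by rw [hv, b_smul_right, a2, mul_zero], a1⟩
      · rw [e]; simp only [sg, b_sub_left, b_smul_left, (hperp z).1, wx, vx]; ring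
      · rw [e]; simp only [sg, b_sub_left, b_smul_left, hu0 _ (hperp z).2.2, wu, vu]; ring
      · rw [e]; simp only [sg, b_sub_left, b_smul_left, (hperp z).2.1, wy, vy]; ring
    by_cases h32 : ∃ z, N₂ (N₂ z) ≠ 0
    · obtain ⟨x'', d'', hq'', hd'', hd''0⟩ := hN₂.exists_block hQ h32
      obtain ⟨-, xn'', -, qn'', -, -, n12'', q2''⟩ := hN₂.block hq'' hd''
      obtain ⟨t1, t2, t3, t4, t5, t6⟩ := mem x''
      obtain ⟨s1, s2, s3, s4, s5, s6⟩ := mem (N₂ x'')
      have li3 : ∀ r s t : K, r • u + s • v + t • N₂ (N₂ x'') = 0 → r = 0 ∧ s = 0 ∧ t = 0 := by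
        intro r s t h
        have p := congrArg (fun e => polar Q e x) h
        have p' := congrArg (fun e => polar Q e x') h
        simp only [b_add_left, b_smul_left, b_zero_left, b_comm u x, hxu, vx, s1, mul_zero,
          add_zero, mul_one] at p
        rw [p, zero_smul, zero_add] at h p'
        simp only [b_add_left, b_smul_left, b_zero_left, b_comm v x', hx'v, s4, mul_zero,
          add_zero, mul_one] at p'
        rw [p', zero_smul, zero_add, smul_eq_zero] at h
        refine ⟨p, p', h.resolve_right fun h0 => hd''0 ?_⟩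
        rw [← hd'', h0, b_zero_left]
      have h1 := (hM u v (N₂ (N₂ x'')) y (N₂ x'') hqu hqv q2'' (by rw [b_comm]; exact vu)
        (by rw [b_comm]; exact s2) (by rw [b_comm]; exact s5) li3 huy vy s3).2
        (by rw [b_comm]; exact t2) (by rw [b_comm]; exact t5) (hN₂.n2n1 x'' x'')
        (by rw [b_comm]; exact t3)
      rw [qn, qn''] at h1
      exact h1.elim hd0 hd''0
    · simp only [not_exists, not_not] at h32
      obtain ⟨a, c, q1, q3, bac, -, li⟩ := hN₂.siegel hQ hdim h32 hne₂
      obtain ⟨a1, a2, -, a4, a5, -⟩ := mem a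
      obtain ⟨c1, c2, -, c4, c5, -⟩ := mem c
      refine no_four hQ hdim ![u, v, N₂ a, N₂ c] ?_ ?_
      · rw [Fintype.linearIndependent_iff]
        intro g hg
        simp only [Fin.sum_univ_four, Matrix.cons_val] at hg
        have p := congrArg (fun e => polar Q e x) hg
        have p' := congrArg (fun e => polar Q e x') hg
        simp only [b_add_left, b_smul_left, b_zero_left, b_comm u x, hxu, vx, a1, c1, mul_zero,
          add_zero, mul_one] at p
        rw [p, zero_smul, zero_add] at hg p'
        simp only [b_add_left, b_smul_left, b_zero_left, b_comm v x', hx'v, a4, c4, mul_zero,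
          add_zero, mul_one] at p'
        rw [p', zero_smul, zero_add] at hg
        obtain ⟨g2, g3⟩ := li _ _ hg
        intro i
        fin_cases i <;> assumption
      · intro i j
        have e1 : polar Q u v = 0 := gram.uv
        have uu : polar Q u u = 0 := by rw [b_self, hqu, mul_zero]
        have vv : polar Q v v = 0 := by rw [b_self, hqv, mul_zero]
        have aa : polar Q (N₂ a) (N₂ a) = 0 := by rw [b_self, q1, mul_zero]
        have cc : polar Q (N₂ c) (N₂ c) = 0 := by rw [b_self, q3, mul_zero]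
        fin_cases i <;> fin_cases j <;>
          simp only [Fin.isValue, Fin.zero_eta, Fin.mk_one, Fin.reduceFinMk, Matrix.cons_val, uu, vv,
            aa, cc, bac, vu, a2, a5, c2, c5, e1] <;>
          rw [b_comm] <;> assumption
  have hform : ∀ z, N z = sg Q u y z + sg Q v w z := fun z => by
    rw [hsplit, hsplit', hN₂0, add_zero]
  have li4 : ∀ r s t p : K, r • u + s • y + t • v + p • w = 0 → r = 0 ∧ s = 0 ∧ t = 0 ∧ p = 0 := by
    intro r s t p h
    have py := congrArg (fun e => polar Q e y) h
    have pw := congrArg (fun e => polar Q e w) h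
    have px := congrArg (fun e => polar Q e x) h
    have px' := congrArg (fun e => polar Q e x') h
    simp only [b_add_left, b_smul_left, b_zero_left, huy, b_self, qn, vy, wy, mul_zero, zero_add,
      add_zero] at py
    simp only [b_add_left, b_smul_left, b_zero_left, gram.uw, gram.yw, hvw, b_self, qn', mul_zero,
      zero_add, add_zero] at pw
    have hs : s = 0 := (mul_eq_zero.1 py).resolve_right (mul_ne_zero (by decide) hd0)
    have hp : p = 0 := (mul_eq_zero.1 pw).resolve_right (mul_ne_zero (by decide) hd'0)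
    simp only [b_add_left, b_smul_left, b_zero_left, b_comm u x, hxu, vx, hs, hp, zero_mul, mul_zero,
      add_zero, mul_one] at px
    simp only [b_add_left, b_smul_left, b_zero_left, px, hs, hp, b_comm v x', hx'v, zero_mul,
      zero_add, add_zero, mul_one] at px'
    exact ⟨px, hs, px', hp⟩
  have hcases : ∀ a c : K, a ≠ 0 → c ≠ 0 → (a = 1 ∧ c = 1) ∨ (a = 1 ∧ c = -1) ∨
      (a = -1 ∧ c = 1) ∨ (a = -1 ∧ c = -1) := by decide
  rcases hcases d d' hd0 hd'0 with ⟨e, e'⟩ | ⟨e, e'⟩ | ⟨e, e'⟩ | ⟨e, e'⟩
  · -- rotate (1,1) into (-1,-1)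
    subst e e'
    obtain ⟨-, -, qy, qw, -, uv', uw', yv', yw', vw'⟩ := gram
    refine Or.inr ⟨u + v, -(y + w), u - v, -(y - w), -1, -1, Or.inr (Or.inr ⟨rfl, rfl⟩), ?_, ?_, ?_⟩
    · constructor <;>
        simp only [q_add, q_sub, QuadraticMap.map_neg, b_neg_left, b_neg_right,
          b_add_left, b_add_right, b_sub_left, b_sub_right, b_self, hqu, hqv, qy, qw, huy, uv', uw',
          yv', yw', vw', b_comm y u, b_comm v u, b_comm w u, b_comm v y, b_comm w y, b_comm w v] <;>
        decide
    · intro r s t p h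
      obtain ⟨e1, e2, e3, e4⟩ := li4 (r + t) (-(s + p)) (r - t) (-(s - p)) (by rw [← h]; module)
      have h2 : ∀ a c : K, a + c = 0 → a - c = 0 → a = 0 ∧ c = 0 := by decide
      obtain ⟨r0, t0⟩ := h2 r t e1 e3
      obtain ⟨s0, p0⟩ := h2 s p (neg_eq_zero.1 e2) (neg_eq_zero.1 e4)
      exact ⟨r0, s0, t0, p0⟩
    · intro z
      have qp : Q (y + w) = -1 := by rw [q_add, qy, qw, yw']; decide
      have qm : Q (y - w) = -1 := by rw [q_sub, qy, qw, yw']; decide
      rw [hform]
      simp only [sg, qy, qw, QuadraticMap.map_neg, qp, qm, b_neg_right,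
        b_add_right, b_sub_right]
      match_scalars <;> ring_nf <;> simp [show (2 : K) = -1 by decide, show (3 : K) = 0 by decide,
        show (4 : K) = 1 by decide]
      all_goals ring
  · exact Or.inr ⟨u, y, v, w, d, d', Or.inr (Or.inl ⟨e, e'⟩), gram, li4, hform⟩
  · refine Or.inr ⟨v, w, u, y, d', d, Or.inr (Or.inl ⟨e', e⟩), ?_, fun r s t p h => ?_,
      fun z => by rw [hform, add_comm]⟩
    · obtain ⟨g1, g2, g3, g4, g5, g6, g7, g8, g9, g10⟩ := gram
      exact ⟨g2, g1, g4, g3, g10, by rw [b_comm]; exact g6, by rw [b_comm]; exact g8,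
        by rw [b_comm]; exact g7, by rw [b_comm]; exact g9, g5⟩
    · obtain ⟨e1, e2, e3, e4⟩ := li4 t p r s (by rw [← h]; module)
      exact ⟨e3, e4, e1, e2⟩
  · exact Or.inr ⟨u, y, v, w, d, d', Or.inr (Or.inr ⟨e, e'⟩), gram, li4, hform⟩

end Cfsg.Agent.Omega7
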