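/-
The standard 7-dimensional orthogonal space over GF(3), Witt's theorem for families, and elements
given by one or two Siegel pieces.
-/
import Cfsg.Agent.Lib.Omega7.Algebra
import Cfsg.Agent.Lib.Orthogonal.Counts

set_option autoImplicit false

namespace Cfsg.Agent.Omega7

open QuadraticMap Module Cfsg.Agent.Orth

/-- the space -/
abbrev V7 : Type := Unit ⊕ (Fin 3 ⊕ Fin 3) → K

/-- the form -/
noncomputable abbrev q7 : QuadraticForm K V7 := qOdd K 3

/-- the anisotropic basis vector -/
def e0 : V7 := fun i => if i = Sum.inl () then 1 else 0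
/-- singular basis vectors -/
def xs (j : Fin 3) : V7 := fun i => if i = Sum.inr (Sum.inl j) then 1 else 0
/-- their partners -/
def ys (j : Fin 3) : V7 := fun i => if i = Sum.inr (Sum.inr j) then 1 else 0

/-- the bilinear form in coordinates -/
def bd (z w : V7) : K :=
  2 * (z (.inl ()) * w (.inl ())) +
    ((z (.inr (.inl 0)) * w (.inr (.inr 0)) + w (.inr (.inl 0)) * z (.inr (.inr 0))) +
     (z (.inr (.inl 1)) * w (.inr (.inr 1)) + w (.inr (.inl 1)) * z (.inr (.inr 1))) +
     (z (.inr (.inl 2)) * w (.inr (.inr 2)) + w (.inr (.inl 2)) * z (.inr (.inr 2))))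

theorem polar_q7 (z w : V7) : polar q7 z w = bd z w := by
  simp only [polar, q7, coe_qOdd, Cfsg.quadFormOdd, Fin.sum_univ_three, Pi.add_apply, bd]
  ring

theorem q7_nondeg : (polarBilin q7).Nondegenerate := qOdd_nondeg (by decide) 3

theorem finrank_V7 : finrank K V7 = 7 := by
  rw [Module.finrank_fintype_fun_eq_card]; rfl

theorem q7_val (v : V7) : q7 v = - bd v v := by rw [q_eq, polar_q7]

theorem b_e0 (z : V7) : polar q7 z e0 = 2 * z (.inl ()) := by
  simp [polar_q7, bd, e0]

theorem b_xs (z : V7) (j : Fin 3) : polar q7 z (xs j) = z (.inr (.inr j)) := by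
  fin_cases j <;> simp [polar_q7, bd, xs]

theorem b_ys (z : V7) (j : Fin 3) : polar q7 z (ys j) = z (.inr (.inl j)) := by
  fin_cases j <;> simp [polar_q7, bd, ys]

theorem expand (z : V7) :
    z = (polar q7 z (ys 0) • xs 0 + polar q7 z (ys 1) • xs 1 + polar q7 z (ys 2) • xs 2) +
        (polar q7 z (xs 0) • ys 0 + polar q7 z (xs 1) • ys 1 + polar q7 z (xs 2) • ys 2) +
        (- polar q7 z e0) • e0 := by
  funext i
  rw [b_e0]
  simp only [b_xs, b_ys, Pi.add_apply, Pi.smul_apply, smul_eq_mul, xs, ys, e0]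
  rcases i with ⟨⟩ | i | i
  · simp
    have : ∀ c : K, c = -(2 * c) := by decide
    exact this _
  · fin_cases i <;> simp
  · fin_cases i <;> simp

section General

variable {V : Type*} [AddCommGroup V] [Module K V] {Q : QuadraticForm K V}

theorem b_sum {n : ℕ} (c : Fin n → K) (f : Fin n → V) (z : V) :
    polar Q (∑ i, c i • f i) z = ∑ i, c i * polar Q (f i) z := by
  show polarBilin Q (∑ i, c i • f i) z = _
  rw [map_sum, LinearMap.sum_apply]
  exact Finset.sum_congr rfl fun i _ => b_smul_left _ _ _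

/-- Witt's theorem for independent families. -/
theorem witt_fam [FiniteDimensional K V] (hQ : (polarBilin Q).Nondegenerate) {n : ℕ}
    (f f' : Fin n → V) (li : LinearIndependent K f) (li' : LinearIndependent K f')
    (h : ∀ i j, polar Q (f i) (f j) = polar Q (f' i) (f' j)) :
    ∃ g ∈ oGroup Q, ∀ i, g (f i) = f' i := by
  let b := Basis.span li
  let φ : Submodule.span K (Set.range f) →ₗ[K] V := b.constr K f'
  have hφ : ∀ i, φ (b i) = f' i := fun i => b.constr_basis K f' i
  have hb : ∀ i, ((b i : Submodule.span K (Set.range f)) : V) = f i := fun i => by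
    rw [show b i = _ from Basis.span_apply li i]
  have hval : ∀ x, φ x = ∑ i, b.repr x i • f' i ∧ (x : V) = ∑ i, b.repr x i • f i := by
    intro x
    constructor
    · calc φ x = φ (∑ i, b.repr x i • b i) := by rw [b.sum_repr]
        _ = _ := by rw [map_sum]; simp only [map_smul, hφ]
    · calc (x : V) = ((∑ i, b.repr x i • b i : Submodule.span K (Set.range f)) : V) := by
            rw [b.sum_repr]
        _ = _ := by rw [Submodule.coe_sum]; simp only [Submodule.coe_smul, hb]
  obtain ⟨g, -, hg, hgφ⟩ := witt hQ full_oGroup (Submodule.span K (Set.range f)) φ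
    (by
      rw [← LinearMap.ker_eq_bot, LinearMap.ker_eq_bot']
      intro x hx
      have h0 := Fintype.linearIndependent_iff.1 li' _ ((hval x).1.symm.trans hx)
      exact b.repr.injective (by ext i; simpa using h0 i))
    (fun x => by
      rw [q_eq, q_eq, (hval x).1, (hval x).2, b_sum, b_sum]
      congr 1
      refine Finset.sum_congr rfl fun i _ => ?_
      rw [b_comm (f' i), b_comm (f i), b_sum, b_sum]
      congr 1
      exact Finset.sum_congr rfl fun j _ => by rw [h])
  exact ⟨g, hg, fun i => by rw [← hb, hgφ, hφ]⟩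

theorem li_two {u y : V} (h : ∀ s t : K, s • u + t • y = 0 → s = 0 ∧ t = 0) :
    LinearIndependent K ![u, y] := by
  rw [Fintype.linearIndependent_iff]
  intro g hg
  simp only [Fin.sum_univ_two, Matrix.cons_val] at hg
  obtain ⟨a, c⟩ := h _ _ hg
  intro i
  fin_cases i <;> assumption

theorem li_three {u v w : V}
    (h : ∀ r s t : K, r • u + s • v + t • w = 0 → r = 0 ∧ s = 0 ∧ t = 0) :
    LinearIndependent K ![u, v, w] := by
  rw [Fintype.linearIndependent_iff]
  intro g hg
  simp only [Fin.sum_univ_three, Matrix.cons_val] at hg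
  obtain ⟨a, c, d⟩ := h _ _ _ hg
  intro i
  fin_cases i <;> assumption

theorem li_four {u y v w : V}
    (h : ∀ r s t p : K, r • u + s • y + t • v + p • w = 0 → r = 0 ∧ s = 0 ∧ t = 0 ∧ p = 0) :
    LinearIndependent K ![u, y, v, w] := by
  rw [Fintype.linearIndependent_iff]
  intro g hg
  simp only [Fin.sum_univ_four, Matrix.cons_val] at hg
  obtain ⟨a, c, d, e⟩ := h _ _ _ _ hg
  intro i
  fin_cases i <;> assumption

/-- `g` is a single Siegel piece -/
def Form1 (Q : QuadraticForm K V) (g : oGroup Q) (u y : V) : Prop :=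
  ∀ z, g.1 z = z + sg Q u y z

/-- `g` is the sum of two Siegel pieces -/
def Form2 (Q : QuadraticForm K V) (g : oGroup Q) (u y v w : V) : Prop :=
  ∀ z, g.1 z = z + (sg Q u y z + sg Q v w z)

theorem sg_map (h : oGroup Q) (u y z : V) : sg Q (h.1 u) (h.1 y) (h.1 z) = h.1 (sg Q u y z) := by
  simp only [sg, map_sub, map_smul, b_map h.2, h.2 y]

theorem sg_neg (u y z : V) : sg Q (-u) (-y) z = sg Q u y z := by
  simp only [sg, QuadraticMap.map_neg, b_neg_right]
  module

theorem Form1.conj {g g' h : oGroup Q} {u y : V} (hg : Form1 Q g u y)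
    (hg' : Form1 Q g' (h.1 u) (h.1 y)) : h * g * h⁻¹ = g' := by
  rw [mul_inv_eq_iff_eq_mul]
  refine Subtype.ext (LinearEquiv.ext fun z => ?_)
  show h.1 (g.1 z) = g'.1 (h.1 z)
  rw [hg, hg', map_add, sg_map]

theorem Form2.conj {g g' h : oGroup Q} {u y v w : V} (hg : Form2 Q g u y v w)
    (hg' : Form2 Q g' (h.1 u) (h.1 y) (h.1 v) (h.1 w)) : h * g * h⁻¹ = g' := by
  rw [mul_inv_eq_iff_eq_mul]
  refine Subtype.ext (LinearEquiv.ext fun z => ?_)
  show h.1 (g.1 z) = g'.1 (h.1 z)
  rw [hg, hg', map_add, map_add, sg_map, sg_map]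

theorem exists_form1 {u y : V} (hu : Q u = 0) (hy : polar Q u y = 0) :
    ∃ g : oGroup Q, g ^ 3 = 1 ∧ Form1 Q g u y := by
  obtain ⟨g, hg, hS⟩ := exists_siegel hu hy
  refine ⟨⟨g, hg⟩, Subtype.ext (LinearEquiv.ext fun z => ?_), fun z => ?_⟩
  · have h3 : y + y + y = 0 := three_smul_zero y
    have hyy : polar Q u (y + y) = 0 := by rw [b_add_right, hy, add_zero]
    have := ((hS.mul hu hy hy hS).mul hu hyy hy hS) z
    rw [h3] at this
    show (g ^ 3) z = z
    rw [pow_three', this]
    simp [b_zero_right]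
  · show g z = _
    rw [hS z, sg]; abel

theorem sg_comp {u y v w : V} {qy qw : K} (G : Gram Q u y v w qy qw) (z : V) :
    sg Q u y (sg Q v w z) = 0 := by
  simp only [sg, b_sub_left, b_smul_left, b_comm w u, b_comm v u, b_comm w y, b_comm v y, G.uv, G.uw,
    G.yv, G.yw, mul_zero, sub_zero, add_zero, zero_smul]

theorem sg_comp' {u y v w : V} {qy qw : K} (G : Gram Q u y v w qy qw) (z : V) :
    sg Q v w (sg Q u y z) = 0 := by
  simp only [sg, b_sub_left, b_smul_left, b_comm v y, G.uv, G.uw,
    G.yv, G.yw, mul_zero, sub_zero, add_zero, zero_smul]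

theorem sg_add (u y : V) (a c : V) : sg Q u y (a + c) = sg Q u y a + sg Q u y c := by
  simp only [sg, b_add_left]; module

theorem exists_form2 {u y v w : V} {qy qw : K} (G : Gram Q u y v w qy qw) :
    ∃ g : oGroup Q, g ^ 3 = 1 ∧ Form2 Q g u y v w := by
  obtain ⟨a, ha3, ha⟩ := exists_form1 G.qu G.uy
  obtain ⟨c, hc3, hc⟩ := exists_form1 G.qv G.vw
  have e : ∀ z, (a * c).1 z = z + (sg Q u y z + sg Q v w z) := fun z => by
    show a.1 (c.1 z) = _
    rw [hc, ha, sg_add, sg_comp G]; abel
  have e' : ∀ z, (c * a).1 z = z + (sg Q u y z + sg Q v w z) := fun z => by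
    show c.1 (a.1 z) = _
    rw [ha, hc, sg_add, sg_comp' G]; abel
  have hcomm : Commute a c := Subtype.ext (LinearEquiv.ext fun z => (e z).trans (e' z).symm)
  exact ⟨a * c, by rw [hcomm.mul_pow, ha3, hc3, one_mul], e⟩

theorem Form2.swap_eq {g : oGroup Q} {u y v w : V} (hg : Form2 Q g u y v w) :
    Form2 Q g v w u y := fun z => by rw [hg, add_comm (sg Q u y z)]

/-- the square of the nilpotent part of one piece -/
theorem sg_sq {u y : V} (hu : Q u = 0) (hy : polar Q u y = 0) (z : V) :
    sg Q u y (sg Q u y z) = (Q y * polar Q z u) • u := by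
  have huu : polar Q u u = 0 := by rw [b_self, hu, mul_zero]
  simp only [sg, b_sub_left, b_smul_left, b_self y, hy, huu, b_comm y u, mul_zero, sub_zero,
    zero_smul, zero_sub, add_zero]
  rw [← neg_smul]
  congr 1
  have : ∀ a c : K, -(a * (2 * c)) = c * a := by decide
  exact this _ _

end General

/-- The constraint used in the classification. -/
theorem q7_constraint : ∀ u v w y y' : V7, q7 u = 0 → q7 v = 0 → q7 w = 0 → polar q7 u v = 0 →
    polar q7 u w = 0 → polar q7 v w = 0 →
    (∀ r s t : K, r • u + s • v + t • w = 0 → r = 0 ∧ s = 0 ∧ t = 0) →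
    polar q7 u y = 0 → polar q7 v y = 0 → polar q7 w y = 0 → q7 y ≠ -1 ∧
    (polar q7 u y' = 0 → polar q7 v y' = 0 → polar q7 w y' = 0 → polar q7 y y' = 0 →
      q7 y = 0 ∨ q7 y' = 0) := by
  intro u v w y y' hu hv hw uv uw vw li p1 p2 p3
  obtain ⟨g, hg, hgi⟩ := witt_fam q7_nondeg ![u, v, w] xs (li_three li) (by
      rw [Fintype.linearIndependent_iff]
      intro c hc i
      have h1 := congrFun hc (.inr (.inl i))
      fin_cases i <;> simpa [Fin.sum_univ_three, xs] using h1) (by
      have h0 : ∀ i j : Fin 3, polar q7 (xs i) (xs j) = 0 := fun i j => by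
        rw [b_xs]; simp [xs]
      intro i j
      rw [h0]
      fin_cases i <;> fin_cases j <;>
        simp [b_self, hu, hv, hw, uv, uw, vw, b_comm v u, b_comm w u, b_comm w v])
  have e0' : g u = xs 0 := hgi 0
  have e1' : g v = xs 1 := hgi 1
  have e2' : g w = xs 2 := hgi 2
  have hz : ∀ t : V7, polar q7 u t = 0 → polar q7 v t = 0 → polar q7 w t = 0 → ∀ i,
      g t (.inr (.inr i)) = 0 := by
    intro t t1 t2 t3 i
    rw [← b_xs (g t) i]
    fin_cases i
    · show polar q7 (g t) (xs 0) = 0
      rw [← e0', b_map hg, b_comm]; exact t1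
    · show polar q7 (g t) (xs 1) = 0
      rw [← e1', b_map hg, b_comm]; exact t2
    · show polar q7 (g t) (xs 2) = 0
      rw [← e2', b_map hg, b_comm]; exact t3
  have hq : ∀ t : V7, (∀ i, g t (.inr (.inr i)) = 0) →
      q7 t = g t (.inl ()) * g t (.inl ()) := by
    intro t ht
    rw [← hg t, q7_val]
    simp only [bd, ht, mul_zero, add_zero]
    have : ∀ c : K, -(2 * (c * c)) = c * c := by decide
    exact this _
  refine ⟨?_, fun q1 q2 q3 hyy => ?_⟩
  · rw [hq y (hz y p1 p2 p3)]
    have : ∀ c : K, c * c ≠ -1 := by decide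
    exact this _
  · rw [hq y (hz y p1 p2 p3), hq y' (hz y' q1 q2 q3)]
    rw [← b_map hg, polar_q7] at hyy
    simp only [bd, hz y p1 p2 p3, hz y' q1 q2 q3, mul_zero, add_zero] at hyy
    have : ∀ a c : K, 2 * (a * c) = 0 → a * a = 0 ∨ c * c = 0 := by decide
    exact this _ _ hyy

end Cfsg.Agent.Omega7
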