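/-
Representatives of the elements of order three in O(7,3), the centralizer of the one of type
[3,2,2], and the invariants separating the classes.
-/
import Cfsg.Agent.Lib.Omega7.Std
import Cfsg.Agent.Lib.Orthogonal.OmegaIndex

set_option autoImplicit false

namespace Cfsg.Agent.Omega7

open QuadraticMap Module Cfsg.Agent.Orth

/-- the orthogonal group -/
noncomputable abbrev O7 : Subgroup (V7 ≃ₗ[K] V7) := oGroup q7

instance finiteO7 : Finite (V7 ≃ₗ[K] V7) :=
  Finite.of_injective _ DFunLike.coe_injective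

theorem b_std {z w : V7} {c : K} (h : bd z w = c) : polar q7 z w = c := by rw [polar_q7, h]

theorem q_std {z : V7} {c : K} (h : - bd z z = c) : q7 z = c := by rw [q7_val, h]

/-- the spinor character -/
structure Spin (χ : ↥O7 →* SpinVal K) : Prop where
  refl : ∀ (r : ↥O7) (v : V7), IsRefl r.1 q7 v → χ r = reflVal q7 v

theorem exists_spin : ∃ χ : ↥O7 →* SpinVal K, Spin χ ∧ χ.ker = commutator ↥O7 ∧ Function.Surjective χ := by
  have h : Fintype.card K ≠ 2 ∨ finrank K V7 ≠ 4 := Or.inl (by decide)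
  obtain ⟨χ, hχ⟩ := exists_spinor (Q := q7) q7_nondeg h
  exact ⟨χ, ⟨hχ⟩, spinor_spec q7_nondeg (by rw [finrank_V7]; norm_num) h χ hχ⟩

/-- the non-trivial square class -/
noncomputable def σ : SqCls K := sqc K (-1)

theorem σ_ne : σ ≠ 1 := by
  rw [σ, Ne, sqc_eq_one_iff (by decide : (-1 : K) ≠ 0)]
  rintro ⟨t, ht⟩
  revert ht
  revert t
  decide

theorem σ_mul : σ * σ = 1 := sqc_mul_self (by decide : (-1 : K) ≠ 0)

theorem sqCls_cases (s : SqCls K) : s = 1 ∨ s = σ := by
  obtain ⟨u, rfl⟩ := QuotientGroup.mk_surjective s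
  have h : ∀ c : K, c ≠ 0 → c = 1 ∨ c = -1 := by decide
  rcases h (u : K) u.ne_zero with h1 | h1
  · left; rw [← sqc_unit, h1, sqc_one]
  · right; rw [← sqc_unit, h1, σ]

/-- the element of value group given by parity and class -/
noncomputable def sv (e : ZMod 2) (s : SqCls K) : SpinVal K := (Multiplicative.ofAdd e, s)

theorem sv_mul (e e' : ZMod 2) (s s' : SqCls K) : sv e s * sv e' s' = sv (e + e') (s * s') := rfl

theorem sv_one : sv 0 1 = 1 := rfl

theorem sv_inj {e e' : ZMod 2} {s s' : SqCls K} (h : sv e s = sv e' s') : e = e' ∧ s = s' :=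
  ⟨Multiplicative.ofAdd.injective (congrArg Prod.fst h), congrArg Prod.snd h⟩

theorem spin_cases (c : SpinVal K) : c = 1 ∨ c = sv 1 1 ∨ c = sv 1 σ ∨ c = sv 0 σ := by
  obtain ⟨e, s⟩ := c
  obtain ⟨e, rfl⟩ : ∃ e', Multiplicative.ofAdd e' = e := ⟨Multiplicative.toAdd e, rfl⟩
  rcases (by decide : ∀ x : ZMod 2, x = 0 ∨ x = 1) e with rfl | rfl <;>
    rcases sqCls_cases s with rfl | rfl
  · exact Or.inl rfl
  · exact Or.inr (Or.inr (Or.inr rfl))
  · exact Or.inr (Or.inl rfl)
  · exact Or.inr (Or.inr (Or.inl rfl))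

theorem spin_sq (c : SpinVal K) : c * c = 1 := by
  rcases spin_cases c with rfl | rfl | rfl | rfl
  · rw [one_mul]
  · rw [sv_mul, mul_one, show (1 : ZMod 2) + 1 = 0 by decide, sv_one]
  · rw [sv_mul, σ_mul, show (1 : ZMod 2) + 1 = 0 by decide, sv_one]
  · rw [sv_mul, σ_mul, add_zero, sv_one]

variable {χ : ↥O7 →* SpinVal K}

theorem Spin.cube (_hχ : Spin χ) {g : ↥O7} (h : g ^ 3 = 1) : χ g = 1 := by
  have h1 : χ g ^ 3 = 1 := by rw [← map_pow, h, map_one]
  rwa [pow_succ, pow_two, spin_sq, one_mul] at h1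

/-- a reflection, with its value and action -/
theorem Spin.exists_R (hχ : Spin χ) (v : V7) (hv : q7 v ≠ 0) :
    ∃ r : ↥O7, χ r = sv 1 (sqc K (q7 v)) ∧ r.1 v = -v ∧ r * r = 1 ∧
      ∀ z, polar q7 z v = 0 → r.1 z = z := by
  obtain ⟨r, hr, h⟩ := exists_isRefl hv
  refine ⟨⟨r, hr⟩, hχ.refl ⟨r, hr⟩ v h, ?_, Subtype.ext h.mul_self, fun z hz => h.fix hz⟩
  show r v = -v
  rw [h.2, b_self, mul_div_assoc, div_self hv, mul_one, two_smul]
  abel

/-- the product of the reflections in three mutually orthogonal vectors -/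
theorem Spin.exists_flip (hχ : Spin χ) (a c d : V7) (ha : q7 a ≠ 0) (hc : q7 c ≠ 0) (hd : q7 d ≠ 0)
    (ac : polar q7 a c = 0) (ad : polar q7 a d = 0) (cd : polar q7 c d = 0) :
    ∃ f : ↥O7, χ f = sv 1 (sqc K (q7 a) * sqc K (q7 c) * sqc K (q7 d)) ∧
      f.1 a = -a ∧ f.1 c = -c ∧ f.1 d = -d ∧
      ∀ z, polar q7 z a = 0 → polar q7 z c = 0 → polar q7 z d = 0 → f.1 z = z := by
  obtain ⟨r₁, x1, a1, -, f1⟩ := hχ.exists_R a ha
  obtain ⟨r₂, x2, a2, -, f2⟩ := hχ.exists_R c hc
  obtain ⟨r₃, x3, a3, -, f3⟩ := hχ.exists_R d hd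
  refine ⟨r₁ * r₂ * r₃, ?_, ?_, ?_, ?_, fun z za zc zd => ?_⟩
  · rw [map_mul, map_mul, x1, x2, x3, sv_mul, sv_mul]
    congr 1
  · show r₁.1 (r₂.1 (r₃.1 a)) = -a
    rw [f3 a ad, f2 a ac, a1]
  · show r₁.1 (r₂.1 (r₃.1 c)) = -c
    rw [f3 c cd, a2, map_neg, f1 c (by rw [b_comm]; exact ac)]
  · show r₁.1 (r₂.1 (r₃.1 d)) = -d
    rw [a3, map_neg, f2 d (by rw [b_comm]; exact cd), map_neg, f1 d (by rw [b_comm]; exact ad)]
  · show r₁.1 (r₂.1 (r₃.1 z)) = z
    rw [f3 z zd, f2 z zc, f1 z za]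

/-- the standard tuple of type [3,2,2] is fixed as a block sign change -/
theorem Spin.block_flip (hχ : Spin χ) (y : V7) (hy : q7 y ≠ 0)
    (h1 : polar q7 y (xs 0) = 0) (h2 : polar q7 y (ys 0) = 0) :
    ∃ f : ↥O7, χ f = sv 1 (σ * sqc K (q7 y)) ∧ f.1 (xs 0) = -(xs 0) ∧ f.1 y = -y ∧
      ∀ z, polar q7 z (xs 0) = 0 → polar q7 z (ys 0) = 0 → polar q7 z y = 0 → f.1 z = z := by
  have qa : q7 (xs 0 + ys 0) = 1 := q_std (by decide)
  have qc : q7 (xs 0 - ys 0) = -1 := q_std (by decide)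
  obtain ⟨f, hf, fa, fc, fy, fix⟩ := hχ.exists_flip (xs 0 + ys 0) (xs 0 - ys 0) y
    (by rw [qa]; decide) (by rw [qc]; decide) hy (b_std (by decide))
    (by rw [b_add_left, b_comm, h1, b_comm, h2, add_zero])
    (by rw [b_sub_left, b_comm, h1, b_comm, h2, sub_zero])
  refine ⟨f, ?_, ?_, fy, fun z za zb zy =>
    fix z (by rw [b_add_right, za, zb, add_zero]) (by rw [b_sub_right, za, zb, sub_zero]) zy⟩
  · rw [hf, qa, qc, sqc_one, one_mul]; rfl
  · have e : xs 0 = -((xs 0 + ys 0) + (xs 0 - ys 0)) := by decide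
    conv_lhs => rw [e]
    rw [map_neg, map_add, fa, fc, ← neg_add, ← e]

/-- centralizer symmetry of a single piece -/
theorem commute_form1 {g h : ↥O7} {u y : V7} (hg : Form1 q7 g u y)
    (hh : (h.1 u = u ∧ h.1 y = y) ∨ (h.1 u = -u ∧ h.1 y = -y)) : h * g * h⁻¹ = g := by
  refine hg.conj fun z => ?_
  rcases hh with ⟨a, b⟩ | ⟨a, b⟩
  · rw [a, b]; exact hg z
  · rw [a, b, sg_neg]; exact hg z

/-- centralizer symmetry of two pieces -/
theorem commute_form2 {g h : ↥O7} {u y v w : V7} (hg : Form2 q7 g u y v w)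
    (h1 : (h.1 u = u ∧ h.1 y = y) ∨ (h.1 u = -u ∧ h.1 y = -y))
    (h2 : (h.1 v = v ∧ h.1 w = w) ∨ (h.1 v = -v ∧ h.1 w = -w)) : h * g * h⁻¹ = g := by
  refine hg.conj fun z => ?_
  rcases h1 with ⟨a, b⟩ | ⟨a, b⟩ <;> rcases h2 with ⟨c, d⟩ | ⟨c, d⟩ <;>
    simp only [a, b, c, d, sg_neg] <;> exact hg z

/-! ### The standard representatives -/

/-- the representative of type [3,2,2] -/
def IsC (g : ↥O7) : Prop := Form2 q7 g (xs 0) e0 (xs 1) (xs 2)

theorem gramC : Gram q7 (xs 0) e0 (xs 1) (xs 2) 1 0 :=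
  ⟨q_std (by decide), q_std (by decide), q_std (by decide), q_std (by decide), b_std (by decide),
    b_std (by decide), b_std (by decide), b_std (by decide), b_std (by decide), b_std (by decide)⟩

theorem IsC.nl {g : ↥O7} (hg : IsC g) (z : V7) :
    nl g.1 z = sg q7 (xs 0) e0 z + sg q7 (xs 1) (xs 2) z := by
  rw [nl_apply, hg z]; abel

theorem nl2 {g : ↥O7} {u y v w : V7} {qy qw : K} (hg : Form2 q7 g u y v w)
    (G : Gram q7 u y v w qy qw) (z : V7) :
    nl g.1 (nl g.1 z) = (qy * polar q7 z u) • u + (qw * polar q7 z v) • v := by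
  have e : ∀ z, nl g.1 z = sg q7 u y z + sg q7 v w z := fun z => by rw [nl_apply, hg z]; abel
  rw [e, e, sg_add, sg_add, sg_comp G, sg_comp' G, sg_sq G.qu G.uy, sg_sq G.qv G.vw, G.hy, G.hw]
  abel

theorem nl1 {g : ↥O7} {u y : V7} (hg : Form1 q7 g u y) (hu : q7 u = 0) (hy : polar q7 u y = 0)
    (z : V7) : nl g.1 (nl g.1 z) = (q7 y * polar q7 z u) • u := by
  have e : ∀ z, nl g.1 z = sg q7 u y z := fun z => by rw [nl_apply, hg z]; abel
  rw [e, e, sg_sq hu hy]

/-! ### The centralizer of the representative of type [3,2,2] -/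

theorem transvection_left (c : K) : ∃ E : ↥O7, E ^ 3 = 1 ∧ E.1 (xs 0) = xs 0 ∧ E.1 (ys 0) = ys 0 ∧
    E.1 e0 = e0 ∧ E.1 (xs 1) = xs 1 ∧ E.1 (xs 2) = xs 2 - c • xs 1 := by
  have hy : polar q7 (xs 1) (c • ys 2) = 0 := by
    rw [b_smul_right, b_std (c := 0) (by decide), mul_zero]
  obtain ⟨E, h3, hE⟩ := exists_form1 (Q := q7) (q_std (by decide) : q7 (xs 1) = 0) hy
  refine ⟨E, h3, ?_, ?_, ?_, ?_, ?_⟩ <;> rw [hE, sg]
  · rw [b_std (c := 0) (z := xs 0) (w := xs 1) (by decide), b_smul_right,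
      b_std (c := 0) (by decide)]
    simp
  · rw [b_std (c := 0) (z := ys 0) (w := xs 1) (by decide), b_smul_right,
      b_std (c := 0) (by decide)]
    simp
  · rw [b_std (c := 0) (z := e0) (w := xs 1) (by decide), b_smul_right,
      b_std (c := 0) (by decide)]
    simp
  · rw [b_std (c := 0) (z := xs 1) (w := xs 1) (by decide), b_smul_right,
      b_std (c := 0) (by decide)]
    simp
  · rw [b_std (c := 0) (z := xs 2) (w := xs 1) (by decide), b_smul_right,
      b_std (c := 1) (by decide)]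
    simp [sub_eq_add_neg]

theorem transvection_right (c : K) : ∃ E : ↥O7, E ^ 3 = 1 ∧ E.1 (xs 0) = xs 0 ∧ E.1 (ys 0) = ys 0 ∧
    E.1 e0 = e0 ∧ E.1 (xs 1) = xs 1 - c • xs 2 ∧ E.1 (xs 2) = xs 2 := by
  have hy : polar q7 (xs 2) (c • ys 1) = 0 := by
    rw [b_smul_right, b_std (c := 0) (by decide), mul_zero]
  obtain ⟨E, h3, hE⟩ := exists_form1 (Q := q7) (q_std (by decide) : q7 (xs 2) = 0) hy
  refine ⟨E, h3, ?_, ?_, ?_, ?_, ?_⟩ <;> rw [hE, sg]
  · rw [b_std (c := 0) (z := xs 0) (w := xs 2) (by decide), b_smul_right,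
      b_std (c := 0) (by decide)]
    simp
  · rw [b_std (c := 0) (z := ys 0) (w := xs 2) (by decide), b_smul_right,
      b_std (c := 0) (by decide)]
    simp
  · rw [b_std (c := 0) (z := e0) (w := xs 2) (by decide), b_smul_right,
      b_std (c := 0) (by decide)]
    simp
  · rw [b_std (c := 0) (z := xs 1) (w := xs 2) (by decide), b_smul_right,
      b_std (c := 1) (by decide)]
    simp [sub_eq_add_neg]
  · rw [b_std (c := 0) (z := xs 2) (w := xs 2) (by decide), b_smul_right,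
      b_std (c := 0) (by decide)]
    simp

/-- `h` fixes a standard block and acts on the plane `⟨xs 1, xs 2⟩` by the given matrix -/
def Acts (h : ↥O7) (p r s t : K) : Prop :=
  h.1 (xs 0) = xs 0 ∧ h.1 (ys 0) = ys 0 ∧ h.1 e0 = e0 ∧
    h.1 (xs 1) = p • xs 1 + r • xs 2 ∧ h.1 (xs 2) = s • xs 1 + t • xs 2

theorem Spin.acts_one (hχ : Spin χ) {h : ↥O7} (hh : Acts h 1 0 0 1) : χ h = 1 := by
  obtain ⟨h0, hy0, he, h1, h2⟩ := hh
  simp only [one_smul, zero_smul, add_zero, zero_add] at h1 h2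
  -- the partners move inside the plane
  have mv : ∀ z, polar q7 z (ys 0) = 0 → polar q7 z (xs 0) = 0 → polar q7 z e0 = 0 →
      h.1 z - z = (polar q7 (h.1 z) (ys 1) - polar q7 z (ys 1)) • xs 1 +
        (polar q7 (h.1 z) (ys 2) - polar q7 z (ys 2)) • xs 2 := by
    intro z a b c
    have a' : polar q7 (h.1 z) (ys 0) = 0 := by rw [← hy0, b_map h.2]; exact a
    have b' : polar q7 (h.1 z) (xs 0) = 0 := by rw [← h0, b_map h.2]; exact b
    have c' : polar q7 (h.1 z) e0 = 0 := by rw [← he, b_map h.2]; exact c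
    have d1 : polar q7 (h.1 z) (xs 1) = polar q7 z (xs 1) := by
      conv_lhs => rw [← h1]
      rw [b_map h.2]
    have d2 : polar q7 (h.1 z) (xs 2) = polar q7 z (xs 2) := by
      conv_lhs => rw [← h2]
      rw [b_map h.2]
    have e1 := expand (h.1 z)
    have e2 := expand z
    rw [a', b', c', d1, d2] at e1
    rw [a, b, c] at e2
    exact (congrArg₂ (fun u v : V7 => u - v) e1 e2).trans (by module)
  have cube : ∀ z, polar q7 z (ys 0) = 0 → polar q7 z (xs 0) = 0 → polar q7 z e0 = 0 →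
      h.1 (h.1 (h.1 z)) = z := by
    intro z a b c
    have e := mv z a b c
    set p := polar q7 (h.1 z) (ys 1) - polar q7 z (ys 1)
    set r := polar q7 (h.1 z) (ys 2) - polar q7 z (ys 2)
    have e' : h.1 z = z + (p • xs 1 + r • xs 2) := by rw [← e]; abel
    have hd : h.1 (p • xs 1 + r • xs 2) = p • xs 1 + r • xs 2 := by
      rw [map_add, map_smul, map_smul, h1, h2]
    have e2 : h.1 (h.1 z) = z + (p • xs 1 + r • xs 2) + (p • xs 1 + r • xs 2) := by
      rw [e', map_add, hd, e']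
    rw [e2, map_add, map_add, hd, e']
    calc z + (p • xs 1 + r • xs 2) + (p • xs 1 + r • xs 2) + (p • xs 1 + r • xs 2)
        = z + ((p • xs 1 + r • xs 2) + (p • xs 1 + r • xs 2) + (p • xs 1 + r • xs 2)) := by abel
      _ = z := by rw [three_smul_zero, add_zero]
  apply hχ.cube
  refine Subtype.ext (LinearEquiv.ext fun z => ?_)
  show (h.1 ^ 3) z = z
  rw [pow_three']
  show h.1 (h.1 (h.1 z)) = z
  rw [expand z]
  simp only [map_add, map_smul, h0, h1, h2, he, hy0,
    cube (ys 1) (b_std (by decide)) (b_std (by decide)) (b_std (by decide)),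
    cube (ys 2) (b_std (by decide)) (b_std (by decide)) (b_std (by decide))]

theorem Acts.left {h : ↥O7} {p r s t : K} (hh : Acts h p r s t) (c : K) :
    ∃ h' : ↥O7, Acts h' (p - c * r) r (s - c * t) t ∧ ∀ χ : ↥O7 →* SpinVal K, Spin χ → χ h' = χ h := by
  obtain ⟨E, h3, a0, b0, c0, e1, e2⟩ := transvection_left c
  obtain ⟨h0, hy0, he, h1, h2⟩ := hh
  refine ⟨E * h, ⟨?_, ?_, ?_, ?_, ?_⟩, fun χ hχ => by rw [map_mul, hχ.cube h3, one_mul]⟩
  · show E.1 (h.1 (xs 0)) = _; rw [h0, a0]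
  · show E.1 (h.1 (ys 0)) = _; rw [hy0, b0]
  · show E.1 (h.1 e0) = _; rw [he, c0]
  · show E.1 (h.1 (xs 1)) = _
    rw [h1, map_add, map_smul, map_smul, e1, e2]; module
  · show E.1 (h.1 (xs 2)) = _
    rw [h2, map_add, map_smul, map_smul, e1, e2]; module

theorem Acts.right {h : ↥O7} {p r s t : K} (hh : Acts h p r s t) (c : K) :
    ∃ h' : ↥O7, Acts h' p (r - c * p) s (t - c * s) ∧ ∀ χ : ↥O7 →* SpinVal K, Spin χ → χ h' = χ h := by
  obtain ⟨E, h3, a0, b0, c0, e1, e2⟩ := transvection_right c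
  obtain ⟨h0, hy0, he, h1, h2⟩ := hh
  refine ⟨E * h, ⟨?_, ?_, ?_, ?_, ?_⟩, fun χ hχ => by rw [map_mul, hχ.cube h3, one_mul]⟩
  · show E.1 (h.1 (xs 0)) = _; rw [h0, a0]
  · show E.1 (h.1 (ys 0)) = _; rw [hy0, b0]
  · show E.1 (h.1 e0) = _; rw [he, c0]
  · show E.1 (h.1 (xs 1)) = _
    rw [h1, map_add, map_smul, map_smul, e1, e2]; module
  · show E.1 (h.1 (xs 2)) = _
    rw [h2, map_add, map_smul, map_smul, e1, e2]; module

theorem Spin.acts (hχ : Spin χ) {h : ↥O7} {p r s t : K} (hh : Acts h p r s t)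
    (hdet : p * t - s * r = 1) : χ h = 1 := by
  -- first a non-zero lower entry, then entry one, then the identity
  have final : ∀ h : ↥O7, ∀ r s t : K, Acts h 1 r s t → t - s * r = 1 → χ h = 1 := by
    intro h r s t hh hdet
    obtain ⟨h1, a1, x1⟩ := hh.right r
    rw [mul_one, sub_self, show t - r * s = 1 by linear_combination hdet] at a1
    obtain ⟨h2, a2, x2⟩ := a1.left s
    rw [mul_zero, sub_zero, mul_one, sub_self] at a2
    rw [← x1 χ hχ, ← x2 χ hχ, hχ.acts_one a2]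
  have mid : ∀ h : ↥O7, ∀ p r s t : K, Acts h p r s t → p * t - s * r = 1 → r ≠ 0 → χ h = 1 := by
    intro h p r s t hh hdet hr
    obtain ⟨h1, a1, x1⟩ := hh.left ((p - 1) * r)
    have e : ∀ p r : K, r ≠ 0 → p - (p - 1) * r * r = 1 := by decide
    rw [e p r hr] at a1
    rw [← x1 χ hχ]
    refine final h1 _ _ _ a1 ?_
    have := e p r hr
    linear_combination hdet - t * this
  by_cases hr : r = 0
  · subst hr
    obtain ⟨h1, a1, x1⟩ := hh.right 1
    rw [← x1 χ hχ]
    refine mid h1 _ _ _ _ a1 (by linear_combination hdet) ?_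
    rintro h0
    have : p = 0 := by linear_combination -h0
    rw [this] at hdet
    exact zero_ne_one (α := K) (by linear_combination hdet)
  · exact mid h p r s t hh hdet hr

theorem gram_five {f f' : Fin 5 → V7}
    (h00 : polar q7 (f 0) (f 0) = polar q7 (f' 0) (f' 0))
    (h01 : polar q7 (f 0) (f 1) = polar q7 (f' 0) (f' 1))
    (h02 : polar q7 (f 0) (f 2) = polar q7 (f' 0) (f' 2))
    (h03 : polar q7 (f 0) (f 3) = polar q7 (f' 0) (f' 3))
    (h04 : polar q7 (f 0) (f 4) = polar q7 (f' 0) (f' 4))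
    (h11 : polar q7 (f 1) (f 1) = polar q7 (f' 1) (f' 1))
    (h12 : polar q7 (f 1) (f 2) = polar q7 (f' 1) (f' 2))
    (h13 : polar q7 (f 1) (f 3) = polar q7 (f' 1) (f' 3))
    (h14 : polar q7 (f 1) (f 4) = polar q7 (f' 1) (f' 4))
    (h22 : polar q7 (f 2) (f 2) = polar q7 (f' 2) (f' 2))
    (h23 : polar q7 (f 2) (f 3) = polar q7 (f' 2) (f' 3))
    (h24 : polar q7 (f 2) (f 4) = polar q7 (f' 2) (f' 4))
    (h33 : polar q7 (f 3) (f 3) = polar q7 (f' 3) (f' 3))
    (h34 : polar q7 (f 3) (f 4) = polar q7 (f' 3) (f' 4))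
    (h44 : polar q7 (f 4) (f 4) = polar q7 (f' 4) (f' 4))
    : ∀ i j, polar q7 (f i) (f j) = polar q7 (f' i) (f' j) := by
  intro i j
  fin_cases i <;> fin_cases j <;> first | assumption | (rw [b_comm, b_comm (f' _)]; assumption)

/-- The centralizer of the representative of type [3,2,2] has spinor values in `{1, (1,σ)}`. -/
theorem Spin.centralizer (hχ : Spin χ) {g : ↥O7} (hg : IsC g) {h : ↥O7} (hc : h * g = g * h) :
    χ h = 1 ∨ χ h = sv 1 σ := by
  have hN : ∀ f : ↥O7, f * g = g * f → ∀ z, f.1 (nl g.1 z) = nl g.1 (f.1 z) := by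
    intro f hf z
    have := LinearEquiv.congr_fun (congrArg Subtype.val hf) z
    change f.1 (g.1 z) = g.1 (f.1 z) at this
    rw [nl_apply, nl_apply, map_sub, this]
  have NN : ∀ z, nl g.1 (nl g.1 z) = polar q7 z (xs 0) • xs 0 := fun z => by
    rw [nl2 hg gramC, one_mul, zero_mul, zero_smul, add_zero]
  obtain ⟨F, hF, Fx, Fe, Ffix⟩ := hχ.block_flip e0 (by rw [q_std (c := 1) (by decide)]; decide)
    (b_std (by decide)) (b_std (by decide))
  have Fval : χ F = sv 1 σ := by rw [hF, q_std (c := 1) (by decide), sqc_one, mul_one]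
  have hFg : F * g = g * F := by
    rw [← mul_inv_eq_iff_eq_mul]
    exact commute_form2 hg (Or.inr ⟨Fx, Fe⟩) (Or.inl ⟨Ffix _ (b_std (by decide)) (b_std (by decide))
      (b_std (by decide)), Ffix _ (b_std (by decide)) (b_std (by decide)) (b_std (by decide))⟩)
  have yx : polar q7 (ys 0) (xs 0) = 1 := b_std (by decide)
  -- `h` moves `xs 0` to a non-zero multiple of itself
  have heps : ∀ f : ↥O7, f * g = g * f → f.1 (xs 0) = polar q7 (f.1 (ys 0)) (xs 0) • xs 0 := by
    intro f hf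
    have h1 := hN f hf (nl g.1 (ys 0))
    rw [hN f hf (ys 0), NN, NN, yx, one_smul] at h1
    exact h1
  suffices main : ∀ f : ↥O7, f * g = g * f → f.1 (xs 0) = xs 0 → χ f = 1 by
    have he := heps h hc
    have hcases : ∀ e : K, e = 0 ∨ e = 1 ∨ e = -1 := by decide
    rcases hcases (polar q7 (h.1 (ys 0)) (xs 0)) with e | e | e <;> rw [e] at he
    · exfalso
      rw [zero_smul, LinearEquiv.map_eq_zero_iff] at he
      exact absurd he (by decide)
    · exact Or.inl (main h hc (by rw [he, one_smul]))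
    · right
      have hm := main (F * h) (by rw [mul_assoc, hc, ← mul_assoc, hFg, mul_assoc]) (by
        show F.1 (h.1 (xs 0)) = _
        rw [he, map_smul, Fx]; simp)
      rw [map_mul, Fval] at hm
      calc χ h = sv 1 σ * sv 1 σ * χ h := by rw [spin_sq, one_mul]
        _ = sv 1 σ := by rw [mul_assoc, hm, mul_one]
  intro f₀ hf₀ hfx₀
  -- pass to the 2-part
  obtain ⟨m, j, hj, hn⟩ : ∃ m j : ℕ, Odd j ∧ orderOf f₀ = 2 ^ m * j := by
    obtain ⟨m, j, hj, hn⟩ := Nat.exists_eq_two_pow_mul_odd (orderOf_pos f₀).ne'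
    exact ⟨m, j, hj, hn⟩
  set f := f₀ ^ j with hf
  have hfg : f * g = g * f := (Commute.pow_left (hf₀ : Commute f₀ g) j).eq
  have hfn : f ^ (2 ^ m) = 1 := by rw [hf, ← pow_mul, mul_comm, ← hn, pow_orderOf_eq_one]
  have hχf : χ f = χ f₀ := by
    obtain ⟨k, rfl⟩ := hj
    rw [hf, map_pow, pow_succ, pow_mul, pow_two, spin_sq, one_pow, one_mul]
  rw [← hχf]
  have hpow : ∀ i : ℕ, (f₀ ^ i).1 (xs 0) = xs 0 := by
    intro i
    induction i with
    | zero => rfl
    | succ i ih => rw [pow_succ]; show (f₀ ^ i).1 (f₀.1 (xs 0)) = _; rw [hfx₀, ih]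
  have hfx : f.1 (xs 0) = xs 0 := hpow j
  have hfp : ∀ i : ℕ, polar q7 ((f ^ i).1 (ys 0)) (xs 0) = 1 := fun i => by
    rw [← yx]
    conv_lhs => rw [show xs 0 = (f ^ i).1 (xs 0) by rw [hf, ← pow_mul, hpow]]
    rw [b_map (f ^ i).2]
  -- a fixed generator of the block
  set n := 2 ^ m with hndef
  have hn0 : ((n : ℕ) : K) ≠ 0 := by
    rw [hndef, Nat.cast_pow]
    exact pow_ne_zero m (by decide)
  set S : V7 := ∑ i ∈ Finset.range n, (f ^ i).1 (ys 0) with hS
  have hfS : f.1 S = S := by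
    have e1 : f.1 S = ∑ i ∈ Finset.range n, (f ^ (i + 1)).1 (ys 0) := by
      rw [hS, map_sum]
      refine Finset.sum_congr rfl fun i _ => ?_
      rw [pow_succ']; rfl
    have e2 := Finset.sum_range_succ' (fun i => (f ^ i).1 (ys 0)) n
    have e3 := Finset.sum_range_succ (fun i => (f ^ i).1 (ys 0)) n
    rw [e3, hfn, pow_zero] at e2
    rw [e1, hS]
    exact (add_right_cancel e2).symm
  have hSx : polar q7 S (xs 0) = (n : K) := by
    rw [hS]
    show polarBilin q7 _ _ = _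
    rw [map_sum, LinearMap.sum_apply]
    simp only [polarBilin_apply_apply, hfp, Finset.sum_const, Finset.card_range, nsmul_eq_mul, mul_one]
  set x₁ : V7 := ((n : K))⁻¹ • S with hx₁
  set x : V7 := x₁ + (- q7 x₁) • xs 0 with hx
  have hx₁x : polar q7 x₁ (xs 0) = 1 := by rw [hx₁, b_smul_left, hSx, inv_mul_cancel₀ hn0]
  clear_value x₁ x
  have hfx1 : f.1 x₁ = x₁ := by rw [hx₁, map_smul, hfS]
  have hfx' : f.1 x = x := by simp only [hx, map_add, map_smul, hfx, hfx1]
  have hxx0 : polar q7 x (xs 0) = 1 := by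
    rw [hx, b_add_left, b_smul_left, hx₁x, b_std (c := 0) (z := xs 0) (by decide), mul_zero, add_zero]
  have hqx : q7 x = 0 := by
    rw [hx, q_add, q_smul, b_smul_right, hx₁x, q_std (c := 0) (z := xs 0) (by decide)]
    ring
  have hNNx : nl g.1 (nl g.1 x) = xs 0 := by rw [NN, hxx0, one_smul]
  have hd : polar q7 (nl g.1 (nl g.1 x)) x = 1 := by rw [hNNx, b_comm, hxx0]
  have hgood : Good q7 (nl g.1) := by
    have : g ^ 3 = 1 := by
      obtain ⟨g', h3, hg'⟩ := exists_form2 gramC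
      rw [show g = g' from Subtype.ext (LinearEquiv.ext fun z => by rw [hg z, hg' z]), h3]
    refine good_of g.1 g.2 fun z => ?_
    have h4 := LinearEquiv.congr_fun (congrArg Subtype.val this) z
    rw [pow_three'] at h4
    exact h4
  obtain ⟨xx, xn, nn, qn, xn1, nx, n12, q2⟩ := hgood.block hqx hd
  obtain ⟨N₁, hN₁, hsplit, -, k1, -, hperp⟩ := hgood.peel hqx hd one_ne_zero
  rw [one_smul, hNNx] at hsplit
  set y := nl g.1 x with hy
  have hNx0 : nl g.1 (xs 0) = 0 := by
    rw [← hNNx]; exact hgood.cube x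
  have hN₁sq : ∀ z, N₁ (N₁ z) = 0 := by
    intro z
    obtain ⟨p0, p1, p2⟩ := hperp z
    rw [hNNx] at p2
    have e1 := hsplit (N₁ z)
    rw [sg, p2, p1] at e1
    simp only [mul_zero, zero_smul, add_zero, sub_zero, zero_add] at e1
    rw [← e1, show N₁ z = nl g.1 z - sg q7 (xs 0) y z from eq_sub_of_add_eq' (hsplit z).symm,
      map_sub, NN, sg, map_sub, map_smul, map_smul, hNNx, hNx0, smul_zero, sub_zero, sub_self]
  have hN₁ne : ∃ z, N₁ z ≠ 0 := by
    refine ⟨ys 1, fun h0 => ?_⟩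
    have e1 := hsplit (ys 1)
    rw [h0, add_zero, IsC.nl hg, sg, sg, sg, b_std (c := 0) (z := ys 1) (w := xs 0) (by decide),
      b_std (c := 0) (z := ys 1) (w := e0) (by decide),
      b_std (c := 1) (z := ys 1) (w := xs 1) (by decide),
      b_std (c := 0) (z := ys 1) (w := xs 2) (by decide), q_std (c := 1) (z := e0) (by decide),
      q_std (c := 0) (z := xs 2) (by decide)] at e1
    have e2 := congrArg (fun v => polar q7 v (ys 2)) e1
    simp only [zero_smul, one_smul, mul_zero, add_zero, sub_zero, sub_self, zero_add, zero_sub,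
      b_neg_left, b_smul_left, b_std (c := 0) (z := xs 0) (w := ys 2) (by decide),
      b_std (c := 1) (z := xs 2) (w := ys 2) (by decide), neg_zero] at e2
    exact one_ne_zero e2
  obtain ⟨a, c, qa, qc, bac, hform, li⟩ := hN₁.siegel q7_nondeg finrank_V7 hN₁sq hN₁ne
  obtain ⟨va, vy, vu⟩ := hperp a
  obtain ⟨wa, wy, wu⟩ := hperp c
  rw [hNNx] at vu wu
  set v := N₁ a
  set w := N₁ c
  have hqy : q7 y = 1 := qn
  have hxy : polar q7 x y = -1 := xn1
  have uy : polar q7 (xs 0) y = 0 := by rw [← hNNx, b_comm]; exact n12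
  -- move to the standard configuration
  have bl : ∀ i j : Fin 5, polar q7 (![x, xs 0, y, v, w] i) (![x, xs 0, y, v, w] j) =
      polar q7 (![ys 0, xs 0, e0 - xs 0, xs 1, xs 2] i) (![ys 0, xs 0, e0 - xs 0, xs 1, xs 2] j) := by
    have eu : polar q7 (xs 0) (xs 0) = 0 := b_std (by decide)
    have f01 : polar q7 (xs 0) x = 1 := by rw [b_comm]; exact hxx0
    have f02 : polar q7 y x = -1 := by rw [b_comm]; exact hxy
    have f03 : polar q7 x v = 0 := by rw [b_comm]; exact va
    have f04 : polar q7 x w = 0 := by rw [b_comm]; exact wa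
    have f12 : polar q7 y (xs 0) = 0 := by rw [b_comm]; exact uy
    have f13 : polar q7 (xs 0) v = 0 := by rw [b_comm]; exact vu
    have f14 : polar q7 (xs 0) w = 0 := by rw [b_comm]; exact wu
    have f23 : polar q7 y v = 0 := by rw [b_comm]; exact vy
    have f24 : polar q7 y w = 0 := by rw [b_comm]; exact wy
    have f34 : polar q7 w v = 0 := by rw [b_comm]; exact bac
    have f00 : polar q7 x x = 0 := by rw [b_self, hqx, mul_zero]
    have f22 : polar q7 y y = -1 := by rw [b_self, hqy]; decide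
    have f33 : polar q7 v v = 0 := by rw [b_self, qa, mul_zero]
    have f44 : polar q7 w w = 0 := by rw [b_self, qc, mul_zero]
    refine gram_five ?_ ?_ ?_ ?_ ?_ ?_ ?_ ?_ ?_ ?_ ?_ ?_ ?_ ?_ ?_
    · exact f00.trans (b_std (by decide)).symm
    · exact hxx0.trans (b_std (by decide)).symm
    · exact hxy.trans (b_std (by decide)).symm
    · exact f03.trans (b_std (by decide)).symm
    · exact f04.trans (b_std (by decide)).symm
    · exact eu.trans (b_std (by decide)).symm
    · exact uy.trans (b_std (by decide)).symm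
    · exact f13.trans (b_std (by decide)).symm
    · exact f14.trans (b_std (by decide)).symm
    · exact f22.trans (b_std (by decide)).symm
    · exact f23.trans (b_std (by decide)).symm
    · exact f24.trans (b_std (by decide)).symm
    · exact f33.trans (b_std (by decide)).symm
    · exact bac.trans (b_std (by decide)).symm
    · exact f44.trans (b_std (by decide)).symm
  have li5 : LinearIndependent K ![x, xs 0, y, v, w] := by
    rw [Fintype.linearIndependent_iff]
    intro k hk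
    simp only [Fin.sum_univ_five, Matrix.cons_val] at hk
    have p1 := congrArg (fun e => polar q7 e (xs 0)) hk
    simp only [b_add_left, b_smul_left, b_zero_left, hxx0, b_std (c := 0) (z := xs 0) (w := xs 0) (by decide),
      b_comm y (xs 0), uy, vu, wu, mul_zero, add_zero, mul_one] at p1
    have p2 := congrArg (fun e => polar q7 e y) hk
    simp only [b_add_left, b_smul_left, b_zero_left, p1, zero_mul, zero_add, uy, b_self, hqy, vy, wy,
      mul_zero, add_zero, mul_one] at p2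
    have k2 : k 2 = 0 := (mul_eq_zero.1 p2).resolve_right (by decide)
    have p3 := congrArg (fun e => polar q7 e x) hk
    simp only [b_add_left, b_smul_left, b_zero_left, p1, k2, b_comm (xs 0) x, hxx0, va, wa, zero_mul,
      zero_add, mul_zero, add_zero, mul_one] at p3
    simp only [p1, p3, k2, zero_smul, zero_add] at hk
    obtain ⟨k3, k4⟩ := li _ _ hk
    intro i
    fin_cases i <;> assumption
  have li5' : LinearIndependent K ![ys 0, xs 0, e0 - xs 0, xs 1, xs 2] := by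
    rw [Fintype.linearIndependent_iff]
    intro k hk
    simp only [Fin.sum_univ_five, Matrix.cons_val] at hk
    have a0 := congrFun hk (.inr (.inr 0))
    have a2 := congrFun hk (.inl ())
    have a1 := congrFun hk (.inr (.inl 0))
    have a3 := congrFun hk (.inr (.inl 1))
    have a4 := congrFun hk (.inr (.inl 2))
    simp [xs, ys, e0] at a0 a1 a2 a3 a4
    have b1 : k 1 = 0 := by simpa [a2] using a1
    intro i
    fin_cases i <;> assumption
  obtain ⟨k, hk, hki⟩ := witt_fam q7_nondeg _ _ li5 li5' bl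
  have kx : k x = ys 0 := hki 0
  have ku : k (xs 0) = xs 0 := hki 1
  have ky : k y = e0 - xs 0 := hki 2
  have kv : k v = xs 1 := hki 3
  have kw : k w = xs 2 := hki 4
  set κ : ↥O7 := ⟨k, hk⟩
  have gform : Form2 q7 g (xs 0) y v w := fun z => by
    show g.1 z = _
    rw [← hform z, ← hsplit z, nl_apply]; abel
  have kg : κ * g * κ⁻¹ = g := gform.conj (g' := g) (by
    intro z
    show g.1 z = z + (sg q7 (k (xs 0)) (k y) z + sg q7 (k v) (k w) z)
    rw [ku, ky, kv, kw, hg z]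
    simp only [sg, q_std (c := 1) (z := e0) (by decide), q_std (c := 1) (z := e0 - xs 0) (by decide),
      b_sub_right]
    module)
  set f' := κ * f * κ⁻¹ with hf'
  have hχf' : χ f' = χ f := by
    rw [hf', map_mul, map_mul, map_inv, mul_comm (χ κ), mul_inv_cancel_right]
  have hf'g : f' * g = g * f' := by
    calc f' * g = κ * f * κ⁻¹ * (κ * g * κ⁻¹) := by rw [kg]
      _ = κ * (f * g) * κ⁻¹ := by group
      _ = κ * (g * f) * κ⁻¹ := by rw [hfg]
      _ = κ * g * κ⁻¹ * (κ * f * κ⁻¹) := by group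
      _ = g * f' := by rw [kg]
  have fixes : ∀ z, f.1 z = z → f'.1 (k z) = k z := fun z hz => by
    show k (f.1 (k.symm (k z))) = k z
    rw [LinearEquiv.symm_apply_apply, hz]
  have hy0 : f'.1 (ys 0) = ys 0 := by rw [← kx]; exact fixes x hfx'
  have hx0 : f'.1 (xs 0) = xs 0 := by rw [← ku]; exact fixes _ hfx
  have he0 : f'.1 e0 = e0 := by
    have h1 := fixes y (by rw [hy, hN f hfg, hfx'])
    rw [ky, map_sub, hx0] at h1
    simpa using h1
  rw [← hχf']
  -- action on the plane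
  have plane : ∀ z, polar q7 z (xs 0) = 0 → polar q7 z e0 = 0 →
      nl g.1 z = polar q7 z (xs 1) • xs 2 - polar q7 z (xs 2) • xs 1 := by
    intro z a b
    rw [IsC.nl hg, sg, sg, a, b, q_std (c := 0) (z := xs 2) (by decide)]
    module
  have hperpz : ∀ z, polar q7 z (xs 0) = 0 → polar q7 z e0 = 0 →
      polar q7 (f'.1 z) (xs 0) = 0 ∧ polar q7 (f'.1 z) e0 = 0 := by
    intro z a b
    constructor
    · rw [← hx0, b_map f'.2]; exact a
    · rw [← he0, b_map f'.2]; exact b
  have N2 : nl g.1 (ys 1) = xs 2 := by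
    rw [plane _ (b_std (by decide)) (b_std (by decide)), b_std (c := 1) (z := ys 1) (w := xs 1) (by decide),
      b_std (c := 0) (z := ys 1) (w := xs 2) (by decide)]
    simp
  have N3 : nl g.1 (ys 2) = - xs 1 := by
    rw [plane _ (b_std (by decide)) (b_std (by decide)), b_std (c := 0) (z := ys 2) (w := xs 1) (by decide),
      b_std (c := 1) (z := ys 2) (w := xs 2) (by decide)]
    simp
  obtain ⟨a2', b2'⟩ := hperpz (ys 1) (b_std (by decide)) (b_std (by decide))
  obtain ⟨a3', b3'⟩ := hperpz (ys 2) (b_std (by decide)) (b_std (by decide))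
  have hx2 : f'.1 (xs 2) = (- polar q7 (f'.1 (ys 1)) (xs 2)) • xs 1 +
      polar q7 (f'.1 (ys 1)) (xs 1) • xs 2 := by
    conv_lhs => rw [← N2, hN f' hf'g, plane _ a2' b2']
    module
  have hx1 : f'.1 (xs 1) = polar q7 (f'.1 (ys 2)) (xs 2) • xs 1 +
      (- polar q7 (f'.1 (ys 2)) (xs 1)) • xs 2 := by
    have : xs 1 = - nl g.1 (ys 2) := by rw [N3, neg_neg]
    conv_lhs => rw [this, map_neg, hN f' hf'g, plane _ a3' b3']
    module
  refine hχ.acts ⟨hx0, hy0, he0, hx1, hx2⟩ ?_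
  have h1 : polar q7 (f'.1 (ys 2)) (f'.1 (xs 2)) = 1 := by rw [b_map f'.2]; exact b_std (by decide)
  rw [hx2, b_add_right, b_smul_right, b_smul_right] at h1
  linear_combination h1

end Cfsg.Agent.Omega7
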