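/-
Ω(7,3): the seven classes of subgroups of order three.
-/
import Cfsg.Agent.Lib.Omega7.Reps

set_option autoImplicit false

namespace Cfsg.Agent.Omega7

open QuadraticMap Module Cfsg.Agent.Orth

/-- computable form of `q7` -/
def qd (z : V7) : K := - bd z z

/-- computable Siegel piece -/
def sgd (u y x : V7) : V7 := bd x u • y - (bd x y + qd y * bd x u) • u

theorem sg_eq_sgd (u y x : V7) : sg q7 u y x = sgd u y x := by
  simp only [sg, sgd, qd, polar_q7, q7_val]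

theorem ext_std {f f' : V7 →ₗ[K] V7} (h0 : f e0 = f' e0) (hx : ∀ i, f (xs i) = f' (xs i))
    (hy : ∀ i, f (ys i) = f' (ys i)) : f = f' := by
  refine LinearMap.ext fun z => ?_
  rw [expand z]
  simp only [map_add, map_smul, h0, hx, hy]

/-! ### Invariants -/

/-- `N² = 0` -/
def J1 (N : V7 →ₗ[K] V7) : Prop := ∀ z, N (N z) = 0
/-- `N` maps the kernel of `N²` into the image of `N²` -/
def J2 (N : V7 →ₗ[K] V7) : Prop := ∀ z, N (N z) = 0 → ∃ w, N z = N (N w)
/-- the form `b(N²z,z)` takes the value one -/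
def J3 (N : V7 →ₗ[K] V7) : Prop := ∃ z, polar q7 (N (N z)) z = 1
/-- the form `b(N²z,z)` takes the value minus one -/
def J4 (N : V7 →ₗ[K] V7) : Prop := ∃ z, polar q7 (N (N z)) z = -1
/-- the form `b(N²z,z)` is isotropic -/
def J5 (N : V7 →ₗ[K] V7) : Prop := ∃ z, N (N z) ≠ 0 ∧ polar q7 (N (N z)) z = 0

/-- all invariants of `N` are passed to `M` -/
def Passes (N M : V7 →ₗ[K] V7) : Prop :=
  (J1 N → J1 M) ∧ (J2 N → J2 M) ∧ (J3 N → J3 M) ∧ (J4 N → J4 M) ∧ (J5 N → J5 M)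

/-- all invariants agree -/
def SameInv (g g' : ↥O7) : Prop :=
  (J1 (nl g.1) ↔ J1 (nl g'.1)) ∧ (J2 (nl g.1) ↔ J2 (nl g'.1)) ∧ (J3 (nl g.1) ↔ J3 (nl g'.1)) ∧
    (J4 (nl g.1) ↔ J4 (nl g'.1)) ∧ (J5 (nl g.1) ↔ J5 (nl g'.1))

theorem passes_conj (g k : ↥O7) : Passes (nl g.1) (nl (k * g * k⁻¹).1) := by
  have hM : ∀ z, nl (k * g * k⁻¹).1 (k.1 z) = k.1 (nl g.1 z) := fun z => by
    rw [nl_apply, nl_apply, map_sub]
    show k.1 (g.1 (k.1.symm (k.1 z))) - k.1 z = _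
    rw [LinearEquiv.symm_apply_apply]
  have hs : ∀ z, ∃ z', k.1 z' = z := fun z => ⟨k.1.symm z, LinearEquiv.apply_symm_apply _ _⟩
  refine ⟨fun h z => ?_, fun h z hz => ?_, ?_, ?_, ?_⟩
  · obtain ⟨z, rfl⟩ := hs z
    rw [hM, hM, h, map_zero]
  · obtain ⟨z, rfl⟩ := hs z
    rw [hM, hM, LinearEquiv.map_eq_zero_iff] at hz
    obtain ⟨w, hw⟩ := h z hz
    exact ⟨k.1 w, by rw [hM, hM, hM, hw]⟩
  · rintro ⟨z, hz⟩
    exact ⟨k.1 z, by rw [hM, hM, b_map k.2, hz]⟩
  · rintro ⟨z, hz⟩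
    exact ⟨k.1 z, by rw [hM, hM, b_map k.2, hz]⟩
  · rintro ⟨z, hz, hz'⟩
    exact ⟨k.1 z, by rw [hM, hM, Ne, LinearEquiv.map_eq_zero_iff]; exact hz,
      by rw [hM, hM, b_map k.2, hz']⟩

theorem passes_inv (g : ↥O7) (h3 : g ^ 3 = 1) : Passes (nl g.1) (nl (g⁻¹).1) := by
  have hggg : ∀ z, g.1 (g.1 (g.1 z)) = z := fun z => by
    have h := LinearEquiv.congr_fun (congrArg Subtype.val h3) z
    rw [pow_three'] at h
    exact h
  have hN := good_of g.1 g.2 hggg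
  have hM : ∀ z, nl (g⁻¹).1 z = nl g.1 (nl g.1 z) - nl g.1 z := by
    intro z
    have e : (g⁻¹).1 z = g.1 (g.1 z) := by
      apply g.1.injective
      rw [hggg]
      exact g.1.apply_symm_apply z
    simp only [nl_apply, map_sub, e]
    calc g.1 (g.1 z) - z = g.1 (g.1 z) - z + (0 - 0) := by rw [sub_zero, add_zero]
      _ = g.1 (g.1 z) - z + ((z + z + z) - (g.1 z + g.1 z + g.1 z)) := by
        rw [three_smul_zero, three_smul_zero]
      _ = _ := by abel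
  have hMM : ∀ z, nl (g⁻¹).1 (nl (g⁻¹).1 z) = nl g.1 (nl g.1 z) := fun z => by
    rw [hM, hM]
    simp only [map_sub, hN.cube, map_zero]
    abel
  refine ⟨fun h z => ?_, fun h z hz => ?_, ?_, ?_, ?_⟩
  · rw [hMM, h]
  · rw [hMM] at hz
    obtain ⟨w, hw⟩ := h z hz
    exact ⟨-w, by rw [hM, hMM, hz, hw, zero_sub, map_neg, map_neg]⟩
  · rintro ⟨z, hz⟩; exact ⟨z, by rw [hMM, hz]⟩
  · rintro ⟨z, hz⟩; exact ⟨z, by rw [hMM, hz]⟩
  · rintro ⟨z, hz, hz'⟩; exact ⟨z, by rw [hMM]; exact hz, by rw [hMM, hz']⟩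

theorem sameInv_of {g g' : ↥O7} (a : Passes (nl g.1) (nl g'.1)) (b : Passes (nl g'.1) (nl g.1)) :
    SameInv g g' :=
  ⟨⟨a.1, b.1⟩, ⟨a.2.1, b.2.1⟩, ⟨a.2.2.1, b.2.2.1⟩, ⟨a.2.2.2.1, b.2.2.2.1⟩, ⟨a.2.2.2.2, b.2.2.2.2⟩⟩

theorem sameInv_conj {g g' k : ↥O7} (h : k * g * k⁻¹ = g') : SameInv g g' := by
  subst h
  refine sameInv_of (passes_conj g k) ?_
  have h := passes_conj (k * g * k⁻¹) k⁻¹
  rwa [show k⁻¹ * (k * g * k⁻¹) * k⁻¹⁻¹ = g by group] at h

theorem sameInv_conj_inv {g g' k : ↥O7} (h3 : g ^ 3 = 1) (h : k * g * k⁻¹ = g'⁻¹) : SameInv g g' := by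
  have h' : k * g⁻¹ * k⁻¹ = g' := by
    rw [← inv_inv g', ← h]; group
  have a := sameInv_of (passes_inv g h3)
    (by
      have h1 := passes_inv g⁻¹ (by rw [inv_pow, h3, inv_one])
      rwa [inv_inv] at h1)
  obtain ⟨a1, a2, a3, a4, a5⟩ := a
  obtain ⟨b1, b2, b3, b4, b5⟩ := sameInv_conj h'
  exact ⟨a1.trans b1, a2.trans b2, a3.trans b3, a4.trans b4, a5.trans b5⟩

/-- the invariants of a pair of pieces -/
theorem nn2 {g : ↥O7} {u y v w : V7} {qy qw : K} (hg : Form2 q7 g u y v w)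
    (G : Gram q7 u y v w qy qw) (z : V7) :
    polar q7 (nl g.1 (nl g.1 z)) z =
      qy * (polar q7 z u * polar q7 z u) + qw * (polar q7 z v * polar q7 z v) := by
  rw [nl2 hg G, b_add_left, b_smul_left, b_smul_left, b_comm u, b_comm v]
  ring

theorem nn1 {g : ↥O7} {u y : V7} (hg : Form1 q7 g u y) (hu : q7 u = 0) (hy : polar q7 u y = 0)
    (z : V7) : polar q7 (nl g.1 (nl g.1 z)) z = q7 y * (polar q7 z u * polar q7 z u) := by
  rw [nl1 hg hu hy, b_smul_left, b_comm u]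
  ring

variable {χ : ↥O7 →* SpinVal K}

/-- move a conjugating element into the kernel -/
theorem adjust {g T h a b : ↥O7} (hh : h * g * h⁻¹ = T)
    (ha : a * T * a⁻¹ = T) (hb : b * T * b⁻¹ = T) (va : χ a = sv 1 1) (vb : χ b = sv 1 σ) :
    ∃ k : ↥O7, χ k = 1 ∧ k * g * k⁻¹ = T := by
  rcases spin_cases (χ h) with e | e | e | e
  · exact ⟨h, e, hh⟩
  · refine ⟨a * h, by rw [map_mul, va, e, spin_sq], ?_⟩
    calc a * h * g * (a * h)⁻¹ = a * (h * g * h⁻¹) * a⁻¹ := by group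
      _ = T := by rw [hh, ha]
  · refine ⟨b * h, by rw [map_mul, vb, e, spin_sq], ?_⟩
    calc b * h * g * (b * h)⁻¹ = b * (h * g * h⁻¹) * b⁻¹ := by group
      _ = T := by rw [hh, hb]
  · refine ⟨a * (b * h), ?_, ?_⟩
    · rw [map_mul, map_mul, va, vb, e, sv_mul, sv_mul, σ_mul, mul_one,
        show (1 : ZMod 2) + (1 + 0) = 0 by decide, sv_one]
    calc a * (b * h) * g * (a * (b * h))⁻¹ = a * (b * (h * g * h⁻¹) * b⁻¹) * a⁻¹ := by group
      _ = T := by rw [hh, hb, ha]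

/-- the singular vector `x₃ - y₃` -/
def dm : V7 := xs 2 - ys 2
/-- the vector `x₃ + y₃` -/
def dp : V7 := xs 2 + ys 2
/-- first vector of norm -1 -/
def am : V7 := e0 + dp
/-- second vector of norm -1 -/
def am' : V7 := e0 - dp

theorem gramPM : Gram q7 (xs 0) e0 (xs 1) dm 1 (-1) :=
  ⟨q_std (by decide), q_std (by decide), q_std (by decide), q_std (by decide), b_std (by decide),
    b_std (by decide), b_std (by decide), b_std (by decide), b_std (by decide), b_std (by decide)⟩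

theorem gramMM : Gram q7 (xs 0) am (xs 1) am' (-1) (-1) :=
  ⟨q_std (by decide), q_std (by decide), q_std (by decide), q_std (by decide), b_std (by decide),
    b_std (by decide), b_std (by decide), b_std (by decide), b_std (by decide), b_std (by decide)⟩

/-- the seven representatives -/
structure Reps (χ : ↥O7 →* SpinVal K) where
  tA : ↥O7
  tP : ↥O7
  tM : ↥O7
  tC : ↥O7
  tC' : ↥O7
  tPM : ↥O7
  tMM : ↥O7
  r : ↥O7
  hA : Form1 q7 tA (xs 0) (xs 1)
  hP : Form1 q7 tP (xs 0) e0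
  hM : Form1 q7 tM (xs 0) dm
  hC : IsC tC
  hC' : tC' = r * tC * r⁻¹
  hr : χ r = sv 1 1
  hr2 : r * r = 1
  hPM : Form2 q7 tPM (xs 0) e0 (xs 1) dm
  hMM : Form2 q7 tMM (xs 0) am (xs 1) am'
  cube : ∀ t ∈ [tA, tP, tM, tC, tC', tPM, tMM], t ^ 3 = 1

theorem exists_reps (hχ : Spin χ) : Nonempty (Reps χ) := by
  obtain ⟨tA, a3, hA⟩ := exists_form1 (Q := q7) (q_std (by decide) : q7 (xs 0) = 0)
    (b_std (by decide) : polar q7 (xs 0) (xs 1) = 0)
  obtain ⟨tP, p3, hP⟩ := exists_form1 (Q := q7) (q_std (by decide) : q7 (xs 0) = 0)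
    (b_std (by decide) : polar q7 (xs 0) e0 = 0)
  obtain ⟨tM, m3, hM⟩ := exists_form1 (Q := q7) (q_std (by decide) : q7 (xs 0) = 0)
    (b_std (by decide) : polar q7 (xs 0) dm = 0)
  obtain ⟨tC, c3, hC⟩ := exists_form2 gramC
  obtain ⟨tPM, pm3, hPM⟩ := exists_form2 gramPM
  obtain ⟨tMM, mm3, hMM⟩ := exists_form2 gramMM
  obtain ⟨r, hr, -, hr2, -⟩ := hχ.exists_R e0 (by rw [q_std (c := 1) (by decide)]; decide)
  rw [q_std (c := 1) (z := e0) (by decide), sqc_one] at hr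
  refine ⟨⟨tA, tP, tM, tC, r * tC * r⁻¹, tPM, tMM, r, hA, hP, hM, hC, rfl, hr, hr2, hPM, hMM, ?_⟩⟩
  simp only [List.mem_cons, List.not_mem_nil, or_false, forall_eq_or_imp, forall_eq]
  exact ⟨a3, p3, m3, c3, by rw [conj_pow, c3, mul_one, mul_inv_cancel], pm3, mm3⟩

/-- the list of representatives -/
def Reps.T (R : Reps χ) : Fin 7 → ↥O7 :=
  ![R.tA, R.tP, R.tM, R.tC, R.tC', R.tPM, R.tMM]

theorem Reps.cube_T (R : Reps χ) (i : Fin 7) : R.T i ^ 3 = 1 := by
  apply R.cube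
  fin_cases i <;> simp [Reps.T]

theorem Reps.chi_T (hχ : Spin χ) (R : Reps χ) (i : Fin 7) : χ (R.T i) = 1 := hχ.cube (R.cube_T i)

theorem Reps.J_A (R : Reps χ) : J1 (nl R.tA.1) := fun z => by
  rw [nl1 R.hA (q_std (by decide)) (b_std (by decide)), q_std (c := 0) (z := xs 1) (by decide),
    zero_mul, zero_smul]

theorem Reps.J_P (R : Reps χ) :
    ¬ J1 (nl R.tP.1) ∧ J2 (nl R.tP.1) ∧ J3 (nl R.tP.1) ∧ ¬ J4 (nl R.tP.1) := by
  have hu : q7 (xs 0) = 0 := q_std (by decide)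
  have huy : polar q7 (xs 0) e0 = 0 := b_std (by decide)
  have qy : q7 e0 = 1 := q_std (by decide)
  have yx : polar q7 (ys 0) (xs 0) = 1 := b_std (by decide)
  refine ⟨fun h => ?_, fun z hz => ?_, ⟨ys 0, ?_⟩, ?_⟩
  · have := h (ys 0)
    rw [nl1 R.hP hu huy, qy, yx, one_mul, one_smul] at this
    exact absurd this (by decide)
  · rw [nl1 R.hP hu huy, qy, one_mul, smul_eq_zero] at hz
    have hz0 : polar q7 z (xs 0) = 0 := hz.resolve_right (by decide)
    refine ⟨(- polar q7 z e0) • ys 0, ?_⟩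
    rw [nl1 R.hP hu huy, qy, one_mul, b_smul_left, yx, mul_one, nl_apply, R.hP z, sg, hz0]
    module
  · rw [nn1 R.hP hu huy, qy, yx]; decide
  · rintro ⟨z, hz⟩
    rw [nn1 R.hP hu huy, qy] at hz
    revert hz
    generalize polar q7 z (xs 0) = c
    revert c
    decide

theorem Reps.J_M (R : Reps χ) : ¬ J1 (nl R.tM.1) ∧ ¬ J3 (nl R.tM.1) := by
  have hu : q7 (xs 0) = 0 := q_std (by decide)
  have huy : polar q7 (xs 0) dm = 0 := b_std (by decide)
  have qy : q7 dm = -1 := q_std (by decide)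
  refine ⟨fun h => ?_, ?_⟩
  · have := h (ys 0)
    rw [nl1 R.hM hu huy, qy, b_std (c := 1) (z := ys 0) (w := xs 0) (by decide), mul_one] at this
    exact absurd this (by decide)
  · rintro ⟨z, hz⟩
    rw [nn1 R.hM hu huy, qy] at hz
    revert hz
    generalize polar q7 z (xs 0) = c
    revert c
    decide

theorem Reps.J_C (R : Reps χ) :
    ¬ J1 (nl R.tC.1) ∧ ¬ J2 (nl R.tC.1) ∧ J3 (nl R.tC.1) ∧ ¬ J4 (nl R.tC.1) := by
  have yx : polar q7 (ys 0) (xs 0) = 1 := b_std (by decide)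
  refine ⟨fun h => ?_, fun h => ?_, ⟨ys 0, ?_⟩, ?_⟩
  · have := h (ys 0)
    rw [nl2 R.hC gramC, yx, one_mul, one_smul, zero_mul, zero_smul, add_zero] at this
    exact absurd this (by decide)
  · obtain ⟨w, hw⟩ := h (ys 1) (by
      rw [nl2 R.hC gramC, b_std (c := 0) (z := ys 1) (w := xs 0) (by decide)]
      simp)
    rw [nl2 R.hC gramC, one_mul, zero_mul, zero_smul, add_zero, IsC.nl R.hC, sg_eq_sgd, sg_eq_sgd] at hw
    have h2 := congrFun hw (.inr (.inl 2))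
    rw [Pi.smul_apply, show xs 0 (.inr (.inl 2)) = 0 by decide, smul_zero] at h2
    exact absurd h2 (by decide)
  · rw [nn2 R.hC gramC, yx]; simp
  · rintro ⟨z, hz⟩
    rw [nn2 R.hC gramC] at hz
    revert hz
    generalize polar q7 z (xs 0) = c
    generalize polar q7 z (xs 1) = c'
    revert c c'
    decide

theorem Reps.J_PM (R : Reps χ) :
    ¬ J1 (nl R.tPM.1) ∧ J3 (nl R.tPM.1) ∧ J4 (nl R.tPM.1) ∧ J5 (nl R.tPM.1) := by
  refine ⟨fun h => ?_, ⟨ys 0, ?_⟩, ⟨ys 1, ?_⟩, ⟨ys 0 + ys 1, ?_, ?_⟩⟩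
  · have := h (ys 0)
    rw [nl2 R.hPM gramPM, polar_q7, polar_q7] at this
    exact absurd this (by decide)
  · rw [nn2 R.hPM gramPM, polar_q7, polar_q7]; decide
  · rw [nn2 R.hPM gramPM, polar_q7, polar_q7]; decide
  · rw [nl2 R.hPM gramPM, polar_q7, polar_q7]; decide
  · rw [nn2 R.hPM gramPM, polar_q7, polar_q7]; decide

theorem Reps.J_MM (R : Reps χ) :
    ¬ J1 (nl R.tMM.1) ∧ J3 (nl R.tMM.1) ∧ J4 (nl R.tMM.1) ∧ ¬ J5 (nl R.tMM.1) := by
  refine ⟨fun h => ?_, ⟨ys 0 + ys 1, ?_⟩, ⟨ys 0, ?_⟩, ?_⟩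
  · have := h (ys 0)
    rw [nl2 R.hMM gramMM, polar_q7, polar_q7] at this
    exact absurd this (by decide)
  · rw [nn2 R.hMM gramMM, polar_q7, polar_q7]; decide
  · rw [nn2 R.hMM gramMM, polar_q7, polar_q7]; decide
  · rintro ⟨z, hz, hz'⟩
    rw [nn2 R.hMM gramMM] at hz'
    rw [nl2 R.hMM gramMM] at hz
    have h0 : ∀ a c : K, -1 * (a * a) + -1 * (c * c) = 0 → a = 0 ∧ c = 0 := by decide
    obtain ⟨e, e'⟩ := h0 _ _ hz'
    rw [e, e'] at hz
    simp at hz

theorem Reps.ne_one (R : Reps χ) (i : Fin 7) : R.T i ≠ 1 := by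
  have key : ∀ g : ↥O7, ¬ J1 (nl g.1) → g ≠ 1 := fun g h h1 => h (fun z => by
    subst h1
    simp [nl_apply])
  fin_cases i
  · intro h
    have h1 := R.hA (ys 0)
    rw [show R.tA = 1 from h, sg_eq_sgd] at h1
    exact absurd (show ys 0 = ys 0 + sgd (xs 0) (xs 1) (ys 0) from h1) (by decide)
  · exact key _ R.J_P.1
  · exact key _ R.J_M.1
  · exact key _ R.J_C.1
  · intro h
    apply key _ R.J_C.1
    have h' : R.r * R.tC * R.r⁻¹ = 1 := by rw [← R.hC']; exact h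
    rwa [mul_inv_eq_one, mul_eq_left] at h'
  · exact key _ R.J_PM.1
  · exact key _ R.J_MM.1

/-- the two classes of type [3,2,2] differ -/
theorem Reps.c_ne_c' (hχ : Spin χ) (R : Reps χ) (k : ↥O7) (hk : χ k = 1) :
    ¬ (k * R.tC * k⁻¹ = R.tC' ∨ k * R.tC * k⁻¹ = R.tC'⁻¹) := by
  have hrinv : R.r⁻¹ = R.r := inv_eq_of_mul_eq_one_right R.hr2
  -- an element inverting the representative
  obtain ⟨I, hI, Ia, Ic, Id, Ifix⟩ := hχ.exists_flip e0 dp dm
    (by rw [q_std (c := 1) (by decide)]; decide) (by rw [q_std (c := 1) (by decide)]; decide)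
    (by rw [q_std (c := -1) (by decide)]; decide) (b_std (by decide)) (b_std (by decide))
    (b_std (by decide))
  have hI' : χ I = sv 1 σ := by
    rw [hI, q_std (c := 1) (z := e0) (by decide), q_std (c := 1) (z := dp) (by decide),
      q_std (c := -1) (z := dm) (by decide), sqc_one, one_mul, one_mul]
    rfl
  have Ix2 : I.1 (xs 2) = - xs 2 := by
    have e : xs 2 = -(dp + dm) := by decide
    rw [e, map_neg, map_add, Ic, Id]
    abel
  have Ix0 : I.1 (xs 0) = xs 0 := Ifix _ (b_std (by decide)) (b_std (by decide)) (b_std (by decide))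
  have Ix1 : I.1 (xs 1) = xs 1 := Ifix _ (b_std (by decide)) (b_std (by decide)) (b_std (by decide))
  have hform : Form2 q7 (R.tC⁻¹) (I.1 (xs 0)) (I.1 e0) (I.1 (xs 1)) (I.1 (xs 2)) := by
    obtain ⟨g', -, hg'⟩ := exists_form2 (Q := q7) (u := xs 0) (y := -e0) (v := xs 1) (w := -xs 2)
      (qy := 1) (qw := 0) ⟨q_std (by decide), q_std (by decide), q_std (by decide), q_std (by decide),
        b_std (by decide), b_std (by decide), b_std (by decide), b_std (by decide), b_std (by decide),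
        b_std (by decide)⟩
    rw [Ix0, Ix1, Ix2, Ia]
    suffices R.tC⁻¹ = g' by rw [this]; exact hg'
    refine inv_eq_of_mul_eq_one_right (Subtype.ext (LinearEquiv.toLinearMap_injective ?_))
    refine ext_std ?_ (fun i => ?_) (fun i => ?_)
    · show R.tC.1 (g'.1 e0) = e0
      rw [R.hC, hg', sg_eq_sgd, sg_eq_sgd, sg_eq_sgd, sg_eq_sgd]
      decide
    · show R.tC.1 (g'.1 (xs i)) = xs i
      rw [R.hC, hg', sg_eq_sgd, sg_eq_sgd, sg_eq_sgd, sg_eq_sgd]
      revert i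
      decide
    · show R.tC.1 (g'.1 (ys i)) = ys i
      rw [R.hC, hg', sg_eq_sgd, sg_eq_sgd, sg_eq_sgd, sg_eq_sgd]
      revert i
      decide
  have hinv : I * R.tC * I⁻¹ = R.tC⁻¹ := Form2.conj R.hC hform
  have hc : χ (R.r * k) = sv 1 1 := by rw [map_mul, R.hr, hk, mul_one]
  rw [R.hC']
  rintro (h | h)
  · have h1 : R.r * k * R.tC = R.tC * (R.r * k) := by
      rw [← mul_inv_eq_iff_eq_mul]
      calc R.r * k * R.tC * (R.r * k)⁻¹ = R.r * (k * R.tC * k⁻¹) * R.r⁻¹ := by group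
        _ = R.r * R.r * R.tC * (R.r * R.r)⁻¹ := by rw [h]; group
        _ = R.tC := by rw [R.hr2]; group
    rcases hχ.centralizer R.hC h1 with e | e <;> rw [hc] at e
    · rw [← sv_one] at e
      exact one_ne_zero (sv_inj e).1
    · exact σ_ne (sv_inj e).2.symm
  · have h1 : I⁻¹ * (R.r * k) * R.tC = R.tC * (I⁻¹ * (R.r * k)) := by
      rw [← mul_inv_eq_iff_eq_mul]
      calc I⁻¹ * (R.r * k) * R.tC * (I⁻¹ * (R.r * k))⁻¹
          = I⁻¹ * (R.r * (k * R.tC * k⁻¹) * R.r⁻¹) * I := by group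
        _ = I⁻¹ * (R.r * R.r * R.tC⁻¹ * (R.r * R.r)⁻¹) * I := by rw [h]; group
        _ = I⁻¹ * (I * R.tC * I⁻¹) * I := by rw [R.hr2, hinv]; group
        _ = R.tC := by group
    rcases hχ.centralizer R.hC h1 with e | e <;>
      rw [map_mul, map_inv, hc, hI', inv_eq_of_mul_eq_one_right (spin_sq _), sv_mul, mul_one] at e
    · rw [← sv_one] at e
      exact σ_ne (sv_inj e).2
    · exact absurd (sv_inj e).1 (by decide)

theorem table {P1 P2 P3 P4 P5 : Fin 7 → Prop}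
    (a : P1 0) (n1 : ¬ P1 1) (n2 : ¬ P1 2) (n3 : ¬ P1 3) (n4 : ¬ P1 4) (n5 : ¬ P1 5) (n6 : ¬ P1 6)
    (t1 : P2 1) (t3 : ¬ P2 3) (t4 : ¬ P2 4)
    (u1 : P3 1) (u2 : ¬ P3 2) (u3 : P3 3) (u4 : P3 4) (u5 : P3 5) (u6 : P3 6)
    (v1 : ¬ P4 1) (v3 : ¬ P4 3) (v4 : ¬ P4 4) (v5 : P4 5) (v6 : P4 6)
    (w5 : P5 5) (w6 : ¬ P5 6) (i j : Fin 7)
    (h1 : P1 i ↔ P1 j) (h2 : P2 i ↔ P2 j) (h3 : P3 i ↔ P3 j) (h4 : P4 i ↔ P4 j) (h5 : P5 i ↔ P5 j) :
    i = j ∨ (i = 3 ∧ j = 4) ∨ (i = 4 ∧ j = 3) := by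
  fin_cases i <;> fin_cases j <;> simp_all

theorem Reps.distinct (hχ : Spin χ) (R : Reps χ) (i j : Fin 7) (k : ↥O7) (hk : χ k = 1)
    (h : k * R.T i * k⁻¹ = R.T j ∨ k * R.T i * k⁻¹ = (R.T j)⁻¹) : i = j := by
  have hs : SameInv (R.T i) (R.T j) := h.elim sameInv_conj (sameInv_conj_inv (R.cube_T i))
  have hC' : SameInv R.tC R.tC' := sameInv_conj R.hC'.symm
  obtain ⟨s1, s2, s3, s4, s5⟩ := hs
  obtain ⟨c1, c2, c3, c4, -⟩ := hC'
  obtain ⟨p1, p2, p3, p4⟩ := R.J_P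
  obtain ⟨m1, m3⟩ := R.J_M
  obtain ⟨d1, d2, d3, d4⟩ := R.J_C
  obtain ⟨u1, u3, u4, u5⟩ := R.J_PM
  obtain ⟨v1, v3, v4, v5⟩ := R.J_MM
  rcases table (P1 := fun i => J1 (nl (R.T i).1)) (P2 := fun i => J2 (nl (R.T i).1))
      (P3 := fun i => J3 (nl (R.T i).1)) (P4 := fun i => J4 (nl (R.T i).1))
      (P5 := fun i => J5 (nl (R.T i).1))
      R.J_A p1 m1 d1 (fun h => d1 (c1.2 h)) u1 v1 p2 d2 (fun h => d2 (c2.2 h))
      p3 m3 d3 (c3.1 d3) u3 v3 p4 d4 (fun h => d4 (c4.2 h)) u4 v4 u5 v5 i j s1 s2 s3 s4 s5 with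
    e | ⟨rfl, rfl⟩ | ⟨rfl, rfl⟩
  · exact e
  · exact absurd h (R.c_ne_c' hχ k hk)
  · exfalso
    apply R.c_ne_c' hχ k⁻¹ (by rw [map_inv, hk, inv_one])
    rcases h with e | e
    · left
      change k * R.tC' * k⁻¹ = R.tC at e
      rw [← e]; group
    · right
      change k * R.tC' * k⁻¹ = R.tC⁻¹ at e
      rw [← inv_inv R.tC, ← e]; group

theorem gram_four {f f' : Fin 4 → V7}
    (h00 : polar q7 (f 0) (f 0) = polar q7 (f' 0) (f' 0))
    (h01 : polar q7 (f 0) (f 1) = polar q7 (f' 0) (f' 1))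
    (h02 : polar q7 (f 0) (f 2) = polar q7 (f' 0) (f' 2))
    (h03 : polar q7 (f 0) (f 3) = polar q7 (f' 0) (f' 3))
    (h11 : polar q7 (f 1) (f 1) = polar q7 (f' 1) (f' 1))
    (h12 : polar q7 (f 1) (f 2) = polar q7 (f' 1) (f' 2))
    (h13 : polar q7 (f 1) (f 3) = polar q7 (f' 1) (f' 3))
    (h22 : polar q7 (f 2) (f 2) = polar q7 (f' 2) (f' 2))
    (h23 : polar q7 (f 2) (f 3) = polar q7 (f' 2) (f' 3))
    (h33 : polar q7 (f 3) (f 3) = polar q7 (f' 3) (f' 3)) :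
    ∀ i j, polar q7 (f i) (f j) = polar q7 (f' i) (f' j) := by
  intro i j
  fin_cases i <;> fin_cases j <;> first | assumption | (rw [b_comm, b_comm (f' _)]; assumption)

theorem Reps.complete (hχ : Spin χ) (R : Reps χ) (g : ↥O7) (h3 : g ^ 3 = 1) (h1 : g ≠ 1) :
    ∃ (i : Fin 7) (k : ↥O7), χ k = 1 ∧ k * g * k⁻¹ = R.T i := by
  have hggg : ∀ z, g.1 (g.1 (g.1 z)) = z := fun z => by
    have h := LinearEquiv.congr_fun (congrArg Subtype.val h3) z
    rw [pow_three'] at h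
    exact h
  have hne : ∃ z, nl g.1 z ≠ 0 := by
    by_contra h
    simp only [not_exists, not_not] at h
    exact h1 (Subtype.ext (LinearEquiv.ext fun z => sub_eq_zero.1 (h z)))
  have refl2 : ∀ v, q7 v = 1 ∨ q7 v = -1 → ∃ r : ↥O7, χ r = sv 1 (sqc K (q7 v)) ∧
      ∀ z, polar q7 z v = 0 → r.1 z = z := fun v hv => by
    obtain ⟨r, a, -, -, b⟩ := hχ.exists_R v (by rcases hv with e | e <;> rw [e] <;> decide)
    exact ⟨r, a, b⟩
  rcases (good_of g.1 g.2 hggg).classify q7_nondeg finrank_V7 q7_constraint hne with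
    ⟨u, y, hu, huy, li, hN⟩ | ⟨u, y, v, w, qy, qw, hcase, G, li, hN⟩
  · have hg : Form1 q7 g u y := fun z => by rw [← hN, nl_apply]; abel
    -- a single piece: move to the standard pair of the same norm
    have step : ∀ (y₀ : V7) (T : ↥O7), Form1 q7 T (xs 0) y₀ → polar q7 (xs 0) y₀ = 0 →
        q7 y = q7 y₀ → (∀ r s : K, r • xs 0 + s • y₀ = 0 → r = 0 ∧ s = 0) →
        ∃ h : ↥O7, h * g * h⁻¹ = T := by
      intro y₀ T hT h0 hq li0
      obtain ⟨f, hf, hfi⟩ := witt_fam q7_nondeg ![u, y] ![xs 0, y₀] (li_two li) (li_two li0) (by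
        have qu : q7 (xs 0) = 0 := q_std (by decide)
        intro i j
        fin_cases i <;> fin_cases j
        · show polar q7 u u = polar q7 (xs 0) (xs 0)
          rw [b_self, b_self, hu, qu]
        · show polar q7 u y = polar q7 (xs 0) y₀
          rw [huy, h0]
        · show polar q7 y u = polar q7 y₀ (xs 0)
          rw [b_comm, huy, b_comm, h0]
        · show polar q7 y y = polar q7 y₀ y₀
          rw [b_self, b_self, hq])
      exact ⟨⟨f, hf⟩, hg.conj (by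
        intro z
        show T.1 z = z + sg q7 (f u) (f y) z
        rw [show f u = xs 0 from hfi 0, show f y = y₀ from hfi 1]
        exact hT z)⟩
    have hcases : ∀ c : K, c = 0 ∨ c = 1 ∨ c = -1 := by decide
    rcases hcases (q7 y) with e | e | e
    · obtain ⟨h, hh⟩ := step (xs 1) R.tA R.hA (b_std (by decide))
        (by rw [e, q_std (c := 0) (by decide)]) (by decide)
      obtain ⟨a, va, fa⟩ := refl2 e0 (Or.inl (q_std (by decide)))
      obtain ⟨b, vb, fb⟩ := refl2 dm (Or.inr (q_std (by decide)))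
      rw [q_std (c := 1) (z := e0) (by decide), sqc_one] at va
      rw [q_std (c := -1) (z := dm) (by decide)] at vb
      exact ⟨0, adjust hh
        (commute_form1 R.hA (Or.inl ⟨fa _ (b_std (by decide)), fa _ (b_std (by decide))⟩))
        (commute_form1 R.hA (Or.inl ⟨fb _ (b_std (by decide)), fb _ (b_std (by decide))⟩)) va vb⟩
    · obtain ⟨h, hh⟩ := step e0 R.tP R.hP (b_std (by decide))
        (by rw [e, q_std (c := 1) (by decide)]) (by decide)
      obtain ⟨a, va, fa⟩ := refl2 (xs 1 + ys 1) (Or.inl (q_std (by decide)))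
      obtain ⟨b, vb, fb⟩ := refl2 (xs 1 - ys 1) (Or.inr (q_std (by decide)))
      rw [q_std (c := 1) (z := xs 1 + ys 1) (by decide), sqc_one] at va
      rw [q_std (c := -1) (z := xs 1 - ys 1) (by decide)] at vb
      exact ⟨1, adjust hh
        (commute_form1 R.hP (Or.inl ⟨fa _ (b_std (by decide)), fa _ (b_std (by decide))⟩))
        (commute_form1 R.hP (Or.inl ⟨fb _ (b_std (by decide)), fb _ (b_std (by decide))⟩)) va vb⟩
    · obtain ⟨h, hh⟩ := step dm R.tM R.hM (b_std (by decide))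
        (by rw [e, q_std (c := -1) (by decide)]) (by decide)
      obtain ⟨a, va, fa⟩ := refl2 (xs 1 + ys 1) (Or.inl (q_std (by decide)))
      obtain ⟨b, vb, fb⟩ := refl2 (xs 1 - ys 1) (Or.inr (q_std (by decide)))
      rw [q_std (c := 1) (z := xs 1 + ys 1) (by decide), sqc_one] at va
      rw [q_std (c := -1) (z := xs 1 - ys 1) (by decide)] at vb
      exact ⟨2, adjust hh
        (commute_form1 R.hM (Or.inl ⟨fa _ (b_std (by decide)), fa _ (b_std (by decide))⟩))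
        (commute_form1 R.hM (Or.inl ⟨fb _ (b_std (by decide)), fb _ (b_std (by decide))⟩)) va vb⟩
  · have hg : Form2 q7 g u y v w := fun z => by rw [← hN, nl_apply]; abel
    have step : ∀ (y₀ w₀ : V7) (T : ↥O7), Form2 q7 T (xs 0) y₀ (xs 1) w₀ →
        Gram q7 (xs 0) y₀ (xs 1) w₀ qy qw →
        (∀ r s t p : K, r • xs 0 + s • y₀ + t • xs 1 + p • w₀ = 0 →
          r = 0 ∧ s = 0 ∧ t = 0 ∧ p = 0) →
        ∃ h : ↥O7, h * g * h⁻¹ = T := by
      intro y₀ w₀ T hT G0 li0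
      obtain ⟨f, hf, hfi⟩ := witt_fam q7_nondeg ![u, y, v, w] ![xs 0, y₀, xs 1, w₀] (li_four li)
        (li_four li0) (by
        obtain ⟨a1, a2, a3, a4, a5, a6, a7, a8, a9, a10⟩ := G
        obtain ⟨c1, c2, c3, c4, c5, c6, c7, c8, c9, c10⟩ := G0
        refine gram_four ?_ (a5.trans c5.symm) (a6.trans c6.symm) (a7.trans c7.symm) ?_
          (a8.trans c8.symm) (a9.trans c9.symm) ?_ (a10.trans c10.symm) ?_
        · show polar q7 u u = polar q7 (xs 0) (xs 0); rw [b_self, b_self, a1, c1]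
        · show polar q7 y y = polar q7 y₀ y₀; rw [b_self, b_self, a3, c3]
        · show polar q7 v v = polar q7 (xs 1) (xs 1); rw [b_self, b_self, a2, c2]
        · show polar q7 w w = polar q7 w₀ w₀; rw [b_self, b_self, a4, c4])
      exact ⟨⟨f, hf⟩, hg.conj (by
        intro z
        show T.1 z = z + (sg q7 (f u) (f y) z + sg q7 (f v) (f w) z)
        rw [show f u = xs 0 from hfi 0, show f y = y₀ from hfi 1, show f v = xs 1 from hfi 2,
          show f w = w₀ from hfi 3]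
        exact hT z)⟩
    rcases hcase with ⟨rfl, rfl⟩ | ⟨rfl, rfl⟩ | ⟨rfl, rfl⟩
    · obtain ⟨h, hh⟩ := step e0 (xs 2) R.tC R.hC gramC (by decide)
      obtain ⟨F, hF, Fx, Fe, Ffix⟩ := hχ.block_flip e0 (by rw [q_std (c := 1) (by decide)]; decide)
        (b_std (by decide)) (b_std (by decide))
      rw [q_std (c := 1) (z := e0) (by decide), sqc_one, mul_one] at hF
      have hFc : F * R.tC * F⁻¹ = R.tC := commute_form2 R.hC (Or.inr ⟨Fx, Fe⟩)
        (Or.inl ⟨Ffix _ (b_std (by decide)) (b_std (by decide)) (b_std (by decide)),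
          Ffix _ (b_std (by decide)) (b_std (by decide)) (b_std (by decide))⟩)
      have c3 : ∀ k : ↥O7, k * g * k⁻¹ = R.tC → F * k * g * (F * k)⁻¹ = R.tC := fun k hk => by
        calc F * k * g * (F * k)⁻¹ = F * (k * g * k⁻¹) * F⁻¹ := by group
          _ = R.tC := by rw [hk, hFc]
      have c4 : ∀ k : ↥O7, k * g * k⁻¹ = R.tC → R.r * k * g * (R.r * k)⁻¹ = R.tC' := fun k hk => by
        calc R.r * k * g * (R.r * k)⁻¹ = R.r * (k * g * k⁻¹) * R.r⁻¹ := by group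
          _ = R.tC' := by rw [hk, R.hC']
      rcases spin_cases (χ h) with e | e | e | e
      · exact ⟨3, h, e, hh⟩
      · exact ⟨4, R.r * h, by rw [map_mul, R.hr, e, spin_sq], c4 h hh⟩
      · exact ⟨3, F * h, by rw [map_mul, hF, e, spin_sq], c3 h hh⟩
      · exact ⟨4, R.r * (F * h), by
          rw [map_mul, map_mul, R.hr, hF, e, sv_mul, sv_mul, σ_mul, mul_one,
            show (1 : ZMod 2) + (1 + 0) = 0 by decide, sv_one], c4 _ (c3 h hh)⟩
    · obtain ⟨h, hh⟩ := step e0 dm R.tPM R.hPM gramPM (by decide)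
      obtain ⟨a, va, fa⟩ := refl2 dp (Or.inl (q_std (by decide)))
      rw [q_std (c := 1) (z := dp) (by decide), sqc_one] at va
      obtain ⟨F, hF, Fx, Fe, Ffix⟩ := hχ.block_flip e0 (by rw [q_std (c := 1) (by decide)]; decide)
        (b_std (by decide)) (b_std (by decide))
      rw [q_std (c := 1) (z := e0) (by decide), sqc_one, mul_one] at hF
      exact ⟨5, adjust hh
        (commute_form2 R.hPM (Or.inl ⟨fa _ (b_std (by decide)), fa _ (b_std (by decide))⟩)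
          (Or.inl ⟨fa _ (b_std (by decide)), fa _ (b_std (by decide))⟩))
        (commute_form2 R.hPM (Or.inr ⟨Fx, Fe⟩)
          (Or.inl ⟨Ffix _ (b_std (by decide)) (b_std (by decide)) (b_std (by decide)),
            Ffix _ (b_std (by decide)) (b_std (by decide)) (b_std (by decide))⟩)) va hF⟩
    · obtain ⟨h, hh⟩ := step am am' R.tMM R.hMM gramMM (by decide)
      obtain ⟨b, vb, fb⟩ := refl2 dm (Or.inr (q_std (by decide)))
      rw [q_std (c := -1) (z := dm) (by decide)] at vb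
      obtain ⟨F, hF, Fx, Fe, Ffix⟩ := hχ.block_flip am (by rw [q_std (c := -1) (by decide)]; decide)
        (b_std (by decide)) (b_std (by decide))
      rw [q_std (c := -1) (z := am) (by decide), show σ * sqc K (-1) = 1 from σ_mul] at hF
      exact ⟨6, adjust hh
        (commute_form2 R.hMM (Or.inr ⟨Fx, Fe⟩)
          (Or.inl ⟨Ffix _ (b_std (by decide)) (b_std (by decide)) (b_std (by decide)),
            Ffix _ (b_std (by decide)) (b_std (by decide)) (b_std (by decide))⟩))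
        (commute_form2 R.hMM (Or.inl ⟨fb _ (b_std (by decide)), fb _ (b_std (by decide))⟩)
          (Or.inl ⟨fb _ (b_std (by decide)), fb _ (b_std (by decide))⟩)) hF vb⟩

end Cfsg.Agent.Omega7
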